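import Mathlib

/-!
The arithmetic of the real tori: pairwise coprime divisors `a = e ν + 1` of `W = q² - q + 1` with `Σ ν = q / 3` and the
congruence `3 W / a ≡ e (q + 1)` modulo `a` multiply up to `W`.
-/

set_option autoImplicit false

namespace Cfsg.Agent.Invol.PiHom.Ree

variable {ι : Type*}

theorem sum_le_prod (s : Finset ι) (f : ι → ℕ) : ∀ (_ : ∀ i ∈ s, 1 ≤ f i),
    ∑ i ∈ s, (f i - 1) + 1 ≤ ∏ i ∈ s, f i := by
  induction s using Finset.cons_induction with
  | empty => simp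
  | cons i s hi ih =>
    intro h
    rw [Finset.sum_cons, Finset.prod_cons]
    have h1 := ih fun j hj => h j (Finset.mem_cons_of_mem hj)
    have h2 := h i (Finset.mem_cons_self i s)
    obtain ⟨a, ha⟩ : ∃ a, f i = a + 1 := ⟨f i - 1, by omega⟩
    rw [ha, Nat.add_sub_cancel, add_mul, one_mul]
    have h3 : a ≤ a * ∏ x ∈ s, f x := Nat.le_mul_of_pos_right _ (by omega)
    omega

theorem exists_window [DecidableEq ι] (s : Finset ι) (g : ι → ℕ) {M L : ℕ} (hg : ∀ i ∈ s, g i < M) :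
    L ≤ ∑ i ∈ s, g i → ∃ T ⊆ s, L ≤ ∑ i ∈ T, g i ∧ ∑ i ∈ T, g i ≤ L + M := by
  induction s using Finset.induction with
  | empty => exact fun h => ⟨∅, le_rfl, h, by simp⟩
  | @insert i s hi ih =>
    intro h
    by_cases hs : L ≤ ∑ x ∈ s, g x
    · obtain ⟨T, hT, h1, h2⟩ := ih (fun x hx => hg x (Finset.mem_insert_of_mem hx)) hs
      exact ⟨T, hT.trans (Finset.subset_insert _ _), h1, h2⟩
    · refine ⟨insert i s, le_rfl, h, ?_⟩
      rw [Finset.sum_insert hi]
      have := hg i (Finset.mem_insert_self i s)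
      omega

/-- The tori exhaust `W`. -/
theorem prod_eq [DecidableEq ι] {q W : ℕ} (hq : 27 ≤ q) (hW : W + q = q ^ 2 + 1) (s : Finset ι)
    (a e ν : ι → ℕ) (ha : ∀ i ∈ s, a i = e i * ν i + 1) (ha7 : ∀ i ∈ s, 7 ≤ a i) (he : ∀ i ∈ s, 6 ≤ e i)
    (he3 : ∀ i ∈ s, 3 ∣ e i → e i = 6)
    (hcong : ∀ i ∈ s, (a i : ℤ) ∣ (e i : ℤ) * (q + 1) - 3 * ((W / a i : ℕ) : ℤ))
    (hdvd : ∏ i ∈ s, a i ∣ W) (hmin : ∀ c, c ∣ W → c ≠ 1 → 7 ≤ c) (hsum : 3 * ∑ i ∈ s, ν i = q) :
    ∏ i ∈ s, a i = W := by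
  by_contra hne
  obtain ⟨c, hc⟩ := hdvd
  have hc7 : 7 ≤ c := hmin c (Dvd.intro_left _ hc.symm) fun h => hne (by rw [hc, h, mul_one])
  have hWq : W < q ^ 2 := by omega
  have hν : ∀ i ∈ s, 6 * ν i ≤ a i - 1 := fun i hi => by
    rw [ha i hi, Nat.add_sub_cancel]
    exact Nat.mul_le_mul_right _ (he i hi)
  by_cases hbig : ∃ i ∈ s, q ≤ a i
  · obtain ⟨i, hi, hiq⟩ := hbig
    set R := ∑ x ∈ s.erase i, ν x with hR
    set B := ∏ x ∈ s.erase i, a x with hB
    have hsum' : 3 * (ν i + R) = q := by rw [hR, Finset.add_sum_erase s ν hi]; exact hsum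
    have hW' : W = a i * (B * c) := by rw [hc, ← Finset.mul_prod_erase s a hi, hB, mul_assoc]
    have hdiv : W / a i = B * c := by rw [hW', Nat.mul_div_cancel_left _ (by omega)]
    have hRB : 6 * R + 1 ≤ B := by
      refine le_trans ?_ (sum_le_prod _ a fun x hx => le_trans (by norm_num) (ha7 x (Finset.mem_of_mem_erase hx)))
      rw [Finset.mul_sum]
      exact Nat.add_le_add_right (Finset.sum_le_sum fun x hx => hν x (Finset.mem_of_mem_erase hx)) 1
    obtain ⟨k, hk⟩ := hcong i hi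
    rw [hdiv, ha i hi] at hk
    set b := B * c with hb
    rw [ha i hi] at hW'
    have he' := he i hi
    have h7B : 7 * B ≤ b := by rw [hb, mul_comm 7]; exact Nat.mul_le_mul_left _ hc7
    have hbq : b < q := by
      refine lt_of_not_ge fun h => ?_
      have := Nat.mul_le_mul hiq h
      rw [ha i hi, ← hW', ← pow_two] at this
      omega
    have hν1 : 13 * q + 1 ≤ 42 * ν i := by omega
    have hν3 : 3 * ν i ≤ q := by omega
    have hab : e i * ν i * b < q ^ 2 := by
      refine lt_of_le_of_lt ?_ hWq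
      rw [hW']
      exact Nat.mul_le_mul_right _ (Nat.le_succ _)
    -- the bound `13 e b < 42 q`
    have heb : 13 * (e i * b) < 42 * q := by
      by_contra hcon
      push Not at hcon
      have h1 := Nat.mul_le_mul_left (ν i) hcon
      have h2 : 42 * q * ν i > 13 * (q * q) := by
        calc 42 * q * ν i = q * (42 * ν i) := by ring
          _ ≥ q * (13 * q + 1) := Nat.mul_le_mul_left _ hν1
          _ > _ := by nlinarith
      nlinarith
    have hk' : ((e i : ℤ)) * (q + 1) - 3 * (b : ℤ) = ((e i : ℤ) * ν i + 1) * k := by push_cast at hk ⊢; exact hk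
    have E6 : (6 : ℤ) ≤ e i := by exact_mod_cast he'
    have EB : 13 * ((e i : ℤ) * b) < 42 * (q : ℤ) := by exact_mod_cast heb
    have N1 : 13 * (q : ℤ) + 1 ≤ 42 * ν i := by exact_mod_cast hν1
    have N3 : 3 * (ν i : ℤ) ≤ q := by exact_mod_cast hν3
    have Q27 : (27 : ℤ) ≤ q := by exact_mod_cast hq
    have B0 : (0 : ℤ) ≤ b := Int.natCast_nonneg _
    have hk3 : k ≤ 3 := by
      by_contra hcon
      push Not at hcon
      have h4 : ((e i : ℤ) * ν i + 1) * 4 ≤ ((e i : ℤ) * ν i + 1) * k :=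
        mul_le_mul_of_nonneg_left (by omega) (by positivity)
      nlinarith
    have hk2 : 3 ≤ k := by
      by_contra hcon
      push Not at hcon
      have h4 : ((e i : ℤ) * ν i + 1) * k ≤ ((e i : ℤ) * ν i + 1) * 2 :=
        mul_le_mul_of_nonneg_left (by omega) (by positivity)
      have h5 : 13 * (6 * (b : ℤ)) ≤ 13 * ((e i : ℤ) * b) := by nlinarith
      nlinarith
    have hk1 : k = 3 := le_antisymm hk3 hk2
    rw [hk1] at hk'
    have h3e : 3 ∣ e i := by
      have h3 : (3 : ℤ) ∣ (e i : ℤ) * (q + 1) := ⟨(e i : ℤ) * ν i + 1 + b, by linarith⟩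
      rcases Int.prime_three.dvd_mul.1 h3 with h | h
      · exact_mod_cast h
      · exfalso; omega
    rw [he3 i hi h3e] at hk'
    push_cast at hk'
    omega
  · push Not at hbig
    have hS : 2 * q ≤ ∑ i ∈ s, (a i - 1) := by
      refine le_trans ?_ (Finset.sum_le_sum hν)
      rw [← Finset.mul_sum]
      omega
    obtain ⟨T, hT, h1, h2⟩ := exists_window s (fun i => a i - 1) (M := q) (L := q / 2)
      (fun i hi => by have := hbig i hi; omega) (by omega)
    have hsplit := Finset.sum_sdiff (f := fun i => a i - 1) hT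
    have hp := Finset.prod_sdiff (f := a) hT
    have hpT := sum_le_prod T a fun i hi => le_trans (by norm_num) (ha7 i (hT hi))
    have hpR := sum_le_prod (s \ T) a fun i hi => le_trans (by norm_num) (ha7 i (Finset.mem_sdiff.1 hi).1)
    have hA : q ≤ 2 * ∏ x ∈ T, a x := by omega
    have hB : q ≤ 2 * ∏ x ∈ s \ T, a x := by omega
    have h4 := Nat.mul_le_mul hA hB
    rw [hc, ← hp] at hWq
    have h7 := Nat.mul_le_mul_left ((∏ x ∈ s \ T, a x) * ∏ x ∈ T, a x) hc7
    nlinarith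

end Cfsg.Agent.Invol.PiHom.Ree
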