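import Cfsg.Agent.Lib.Invol.PiHom.Ree.Auto
import Cfsg.Agent.Lib.Invol.PiHom.Ree.Arith

/-!
A group of Ree type has real elements of every prime order dividing `q² - q + 1`.
-/

set_option autoImplicit false
set_option linter.unusedSectionVars false
set_option linter.style.haveILetI false

namespace Cfsg.Agent.Invol.PiHom.Ree

open Subgroup
open Cfsg.Agent.Invol.CycTI.Ree
open scoped _root_.Classical

universe u v

variable {G : Type u} [Group G] [Fintype G] {P : Type v} [Group P] (X : Sys G P)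

/-- The conjugates of a subgroup. -/
noncomputable def orb (A : Subgroup G) : Finset (Subgroup G) :=
  Finset.univ.image fun c : G => A.map (MulAut.conj c).toMonoidHom

theorem map_conj_comp (A : Subgroup G) (c d : G) :
    (A.map (MulAut.conj d).toMonoidHom).map (MulAut.conj c).toMonoidHom = A.map (MulAut.conj (c * d)).toMonoidHom := by
  rw [map_map]
  congr 1
  ext x
  show c * (d * x * d⁻¹) * c⁻¹ = c * d * x * (c * d)⁻¹
  group

theorem orb_map (A : Subgroup G) (d : G) : orb (A.map (MulAut.conj d).toMonoidHom) = orb A := by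
  ext B
  simp only [orb, Finset.mem_image, Finset.mem_univ, true_and, map_conj_comp]
  constructor
  · rintro ⟨c, rfl⟩; exact ⟨c * d, rfl⟩
  · rintro ⟨c, rfl⟩; exact ⟨c * d⁻¹, by rw [inv_mul_cancel_right]⟩

theorem cent_map (c x : G) : centralizer ({c * x * c⁻¹} : Set G) =
    (centralizer ({x} : Set G)).map (MulAut.conj c).toMonoidHom := by
  ext z
  rw [mem_map, mem_centralizer_singleton_iff]
  constructor
  · intro hz
    refine ⟨c⁻¹ * z * c, mem_centralizer_singleton_iff.2 ?_, ?_⟩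
    · calc c⁻¹ * z * c * x = c⁻¹ * (z * (c * x * c⁻¹)) * c := by group
        _ = c⁻¹ * ((c * x * c⁻¹) * z) * c := by rw [hz]
        _ = _ := by group
    · show c * (c⁻¹ * z * c) * c⁻¹ = z
      group
  · rintro ⟨y, hy, rfl⟩
    show c * y * c⁻¹ * (c * x * c⁻¹) = c * x * c⁻¹ * (c * y * c⁻¹)
    rw [conj_mul, conj_mul, mem_centralizer_singleton_iff.1 hy]

theorem fibre_eq {x : G} (hx : x ∈ MW X) :
    ((MW X).filter fun y => orb (centralizer ({y} : Set G)) = orb (centralizer ({x} : Set G))) =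
      Ree.inv X (As (centralizer ({x} : Set G))) := by
  have h := wtor_of X hx
  ext y
  rw [Finset.mem_filter, Ree.inv, Finset.mem_filter]
  constructor
  · rintro ⟨hy, he⟩
    obtain ⟨hy1, -, hyi⟩ := (mem_MW X).1 hy
    refine ⟨?_, hyi⟩
    have hmem : centralizer ({y} : Set G) ∈ orb (centralizer ({x} : Set G)) := by
      rw [← he]
      refine Finset.mem_image.2 ⟨1, Finset.mem_univ _, ?_⟩
      ext z
      simp [mem_map]
    obtain ⟨c, -, hc⟩ := Finset.mem_image.1 hmem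
    have hyy : y ∈ centralizer ({y} : Set G) := mem_centralizer_singleton_iff.2 rfl
    rw [← hc] at hyy
    obtain ⟨z, hz, e⟩ := hyy
    have ez : z = c⁻¹ * y * c := by
      rw [← e]; show z = c⁻¹ * (c * z * c⁻¹) * c; group
    refine mem_cl.2 ⟨c⁻¹, Finset.mem_filter.2 ⟨Finset.mem_univ _, ?_, ?_⟩⟩
    · rw [inv_inv, ← ez]; exact hz
    · exact fun e' => hy1 (conj_eq_one_iff.1 e')
  · rintro ⟨hy, hyi⟩
    obtain ⟨d, hd⟩ := mem_cl.1 hy
    obtain ⟨hdA, hd1⟩ := (Finset.mem_filter.1 hd).2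
    refine ⟨(mem_MW X).2 ⟨fun e => hd1 (by rw [e]; group), ?_, hyi⟩, ?_⟩
    · rw [← orderOf_conj d y]
      exact h.cop.coprime_dvd_left (Subgroup.orderOf_dvd_natCard _ hdA)
    · rw [← orb_map (centralizer ({y} : Set G)) d, ← cent_map, h.cc _ hdA hd1]

theorem same_orb {A B : Subgroup G} (hA : WTor X A) (hB : WTor X B) {p : ℕ} (hp : p.Prime)
    (hpA : p ∣ Nat.card ↥A) (hpB : p ∣ Nat.card ↥B) : orb A = orb B := by
  haveI := Fact.mk hp
  obtain ⟨⟨a, ha⟩, hao⟩ := exists_prime_orderOf_dvd_card' (G := ↥A) p hpA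
  obtain ⟨⟨b, hb⟩, hbo⟩ := exists_prime_orderOf_dvd_card' (G := ↥B) p hpB
  rw [Subgroup.orderOf_mk] at hao hbo
  have ha1 : a ≠ 1 := fun e => by rw [e, orderOf_one] at hao; exact hp.ne_one hao.symm
  have hb1 : b ≠ 1 := fun e => by rw [e, orderOf_one] at hbo; exact hp.ne_one hbo.symm
  have hap : IsPGroup p ↥(zpowers a) := IsPGroup.of_card (n := 1) (by rw [Nat.card_zpowers, hao, pow_one])
  obtain ⟨S, hS⟩ := hap.exists_le_sylow
  haveI : Nontrivial ↥(S : Subgroup G) :=
    nontrivial_iff.2 ⟨⟨a, hS (mem_zpowers a)⟩, 1, fun e => ha1 (congrArg Subtype.val e)⟩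
  obtain ⟨z, hz1⟩ := @exists_ne _ S.isPGroup'.center_nontrivial 1
  have hz : ((z : ↥(S : Subgroup G)) : G) ∈ A :=
    hA.mem_of_comm ha ha1 (congrArg Subtype.val ((mem_center_iff.1 z.2 ⟨a, hS (mem_zpowers a)⟩).symm))
  have hz1' : ((z : ↥(S : Subgroup G)) : G) ≠ 1 := fun e => hz1 (Subtype.ext (Subtype.ext e))
  have hSA : (S : Subgroup G) ≤ A := fun s hs =>
    hA.mem_of_comm hz hz1' (congrArg Subtype.val (mem_center_iff.1 z.2 ⟨s, hs⟩))
  obtain ⟨c, hc⟩ := Invol.exists_conj_mem_sylow (n := 1) (hbo.trans (pow_one p).symm) S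
  rw [← hA.cc _ (hSA hc) (fun e => hb1 (conj_eq_one_iff.1 e)), cent_map, orb_map, hB.cc b hb hb1]

theorem prod_dvd {ι : Type*} (s : Finset ι) (f : ι → ℕ) {N : ℕ} : (∀ i ∈ s, f i ∣ N) →
    (∀ i ∈ s, ∀ j ∈ s, i ≠ j → (f i).Coprime (f j)) → ∏ i ∈ s, f i ∣ N := by
  induction s using Finset.cons_induction with
  | empty => simp
  | cons i s hi ih =>
    intro h1 h2
    rw [Finset.prod_cons]
    refine (Nat.Coprime.prod_right fun j hj => h2 i (Finset.mem_cons_self i s) j (Finset.mem_cons_of_mem hj)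
      fun e => hi (e ▸ hj)).mul_dvd_of_dvd_of_dvd (h1 i (Finset.mem_cons_self i s))
      (ih (fun j hj => h1 j (Finset.mem_cons_of_mem hj))
        fun j hj k hk => h2 j (Finset.mem_cons_of_mem hj) k (Finset.mem_cons_of_mem hk))

/-- Real elements of every prime order dividing the cofactor. -/
theorem exists_real_prime (hP : Psl3 P) {p : ℕ} (hp : p.Prime) (hW : p ∣ X.q ^ 2 - X.q + 1) :
    ∃ x : G, orderOf x = p ∧ X.t * x * X.t⁻¹ = x⁻¹ := by
  haveI := Fact.mk hp
  set cls : G → Finset (Subgroup G) := fun x => orb (centralizer ({x} : Set G))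
  set s := (MW X).image cls
  set A : Finset (Subgroup G) → Subgroup G := fun i =>
    if hi : ∃ x ∈ MW X, cls x = i then centralizer ({hi.choose} : Set G) else ⊥ with hA
  have hrep : ∀ i ∈ s, ∃ x ∈ MW X, cls x = i ∧ A i = centralizer ({x} : Set G) := fun i hi => by
    have h : ∃ x ∈ MW X, cls x = i := Finset.mem_image.1 hi
    exact ⟨h.choose, h.choose_spec.1, h.choose_spec.2, by simp only [hA, dif_pos h]⟩
  have hT : ∀ i ∈ s, WTor X (A i) := fun i hi => by
    obtain ⟨x, hx, -, e⟩ := hrep i hi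
    exact e ▸ wtor_of X hx
  set a : Finset (Subgroup G) → ℕ := fun i => Nat.card ↥(A i)
  set e : Finset (Subgroup G) → ℕ := fun i => Nat.card ↥(E X (A i))
  set ν : Finset (Subgroup G) → ℕ := fun i => (a i - 1) / e i
  have hν : ∀ i ∈ s, a i - 1 = e i * ν i := fun i hi => (Nat.mul_div_cancel' (hT i hi).E_dvd_sub).symm
  have hfib : ∀ i ∈ s, ((MW X).filter fun y => cls y = i).card = X.q * (X.q ^ 2 - 1) * ν i := fun i hi => by
    obtain ⟨x, hx, hxi, hAx⟩ := hrep i hi
    rw [← (hT i hi).card_inv_eq (hν i hi), ← hxi, fibre_eq X hx]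
    rw [hxi, hAx]
  have hcount := card_MW X hP
  rw [Finset.card_eq_sum_card_image cls (MW X), Finset.sum_congr rfl hfib, ← Finset.mul_sum] at hcount
  have hpos : 0 < X.q * (X.q ^ 2 - 1) := by
    have := X.q_ge; have := X.m_ge; have := X.r_ge
    rw [X.sq_sub]; positivity
  have hsum : 3 * ∑ i ∈ s, ν i = X.q := by
    refine Nat.eq_of_mul_eq_mul_left hpos ?_
    calc X.q * (X.q ^ 2 - 1) * (3 * ∑ i ∈ s, ν i) = 3 * (X.q * (X.q ^ 2 - 1) * ∑ i ∈ s, ν i) := by ring
      _ = _ := by rw [hcount]; ring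
  have hprod : ∏ i ∈ s, a i = X.q ^ 2 - X.q + 1 := by
    refine prod_eq X.q_ge X.qq_sub_add s a e ν (fun i hi => ?_) (fun i hi => seven_le X (hT i hi).dvd (hT i hi).one_lt.ne')
      (fun i hi => (hT i hi).E_ge hP) (fun i hi => (hT i hi).E_three hP) (fun i hi => (hT i hi).cong)
      (prod_dvd s a (fun i hi => (hT i hi).dvd) fun i hi j hj hij => Nat.coprime_of_dvd fun r hr h1 h2 => hij ?_)
      (fun c hc h1 => seven_le X hc h1) hsum
    · have := hν i hi; have := (hT i hi).one_lt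
      show a i = _
      simp only [a] at *
      omega
    · obtain ⟨x, -, hxi, hAx⟩ := hrep i hi
      obtain ⟨y, -, hyj, hAy⟩ := hrep j hj
      rw [← hxi, ← hyj]
      show orb _ = orb _
      rw [← hAx, ← hAy]
      exact same_orb X (hT i hi) (hT j hj) hr h1 h2
  rw [← hprod] at hW
  obtain ⟨i, hi, hpi⟩ := (Prime.dvd_finsetProd_iff hp.prime a).1 hW
  obtain ⟨⟨x, hx⟩, hxo⟩ := exists_prime_orderOf_dvd_card' (G := ↥(A i)) p hpi
  exact ⟨x, by rwa [Subgroup.orderOf_mk] at hxo, (hT i hi).inv x hx⟩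

end Cfsg.Agent.Invol.PiHom.Ree
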