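import Cfsg.Agent.Lib.Invol.PiHom.Ree.WTor

/-!
The automiser of a torus has even order at least six and, if three divides it, order six.
-/

set_option autoImplicit false
set_option linter.unusedSectionVars false
set_option linter.style.haveILetI false

namespace Cfsg.Agent.Invol.PiHom.Ree

open Subgroup
open Cfsg.Agent.Invol.CycTI.Ree
open scoped _root_.Classical

universe u v

variable {G : Type u} [Group G] [Fintype G] {P : Type v} [Group P] (X : Sys G P)

/-- The part of the automiser in the second factor. -/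
def EP (A : Subgroup G) : Subgroup P := (E X A).comap X.ι

theorem mem_EP {A : Subgroup G} {k : P} : k ∈ EP X A ↔ X.ι k ∈ E X A := Iff.rfl

namespace WTor

variable {X} {A : Subgroup G} (h : WTor X A)
include h

theorem t_mem_E : X.t ∈ E X A :=
  ⟨h.flipped.norm_v, mem_centralizer_singleton_iff.2 rfl⟩

theorem card_E : Nat.card ↥(E X A) = 2 * Nat.card ↥(EP X A) := by
  haveI := X.S.lp.finiteP
  let f : Bool × ↥(EP X A) → ↥(E X A) := fun p =>
    ⟨(if p.1 then X.t else 1) * X.ι p.2, mul_mem (by split_ifs; exacts [h.t_mem_E, one_mem _]) p.2.2⟩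
  have hf : Function.Bijective f := by
    constructor
    · rintro ⟨a, k⟩ ⟨b, l⟩ he
      have h' : (if a then X.t else 1) * X.ι k = (if b then X.t else 1) * X.ι l := congrArg Subtype.val he
      rcases a <;> rcases b <;> simp at h'
      · rw [Subtype.ext (X.S.B.inj h')]
      · exact absurd h' (X.S.B.ι_ne_tι k l)
      · exact absurd h'.symm (X.S.B.ι_ne_tι l k)
      · rw [Subtype.ext (X.S.B.inj h')]
    · rintro ⟨c, hc⟩
      obtain ⟨k, hk | hk⟩ := X.S.B.cover c (mem_centralizer_singleton_iff.1 hc.2)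
      · exact ⟨(false, ⟨k, (mem_EP X).2 (hk ▸ hc)⟩), Subtype.ext (by simp [f, hk])⟩
      · refine ⟨(true, ⟨k, (mem_EP X).2 ?_⟩), Subtype.ext (by simp [f, hk])⟩
        have := mul_mem h.t_mem_E hc
        rwa [hk, ← mul_assoc, X.tt, one_mul] at this
  rw [← Nat.card_congr (Equiv.ofBijective f hf), Nat.card_prod, Nat.card_eq_fintype_card (α := Bool),
    Fintype.card_bool]

theorem free_EP {k : P} (hk : k ∈ EP X A) {a : G} (ha : a ∈ A) (ha1 : a ≠ 1) (he : X.ι k * a = a * X.ι k) :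
    k = 1 :=
  X.S.B.inj ((h.E_free ((mem_EP X).1 hk) ha ha1 he).trans (map_one _).symm)

theorem odd_EP : Odd (Nat.card ↥(EP X A)) := by
  haveI := X.S.lp.finiteP
  haveI : Fact (Nat.Prime 2) := ⟨Nat.prime_two⟩
  by_contra hh
  obtain ⟨⟨k, hk⟩, ho⟩ := exists_prime_orderOf_dvd_card' (G := ↥(EP X A)) 2
    (even_iff_two_dvd.1 (Nat.not_odd_iff_even.1 hh))
  rw [Subgroup.orderOf_mk] at ho
  have hk1 : k ≠ 1 := fun e => by rw [e, orderOf_one] at ho; omega
  have hkk : X.ι k * X.ι k = 1 := by rw [← map_mul, ← pow_two, ← ho, pow_orderOf_eq_one, map_one]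
  have hkA := AbelTwo.ReeTrans.inverts (R := A) hkk
    (fun a ha => (mem_normalizer_iff.1 hk.1 a).1 ha)
    (fun a ha e => by_contra fun ha1 => hk1 (h.free_EP hk ha ha1 e.symm))
  obtain ⟨a, ha, ha1⟩ := h.exists_elt
  have hts : X.t * X.ι k ∈ A := h.mem_of_comm ha ha1 (by
    rw [← mul_inv_eq_iff_eq_mul, show X.t * X.ι k * a * (X.t * X.ι k)⁻¹ = X.t * (X.ι k * a * (X.ι k)⁻¹) * X.t⁻¹ by
      group, hkA a ha, h.inv _ (inv_mem ha), inv_inv])
  have h1 := h.inter_C hts (by rw [mul_assoc, X.tc])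
  exact X.S.B.t_not k ((eq_inv_of_mul_eq_one_right h1).trans X.S.t_inv)

/-- The automiser is not of order two: the class would be too large. -/
theorem E_ne_two (hP : Psl3 P) : Nat.card ↥(E X A) ≠ 2 := by
  intro he
  have hA7 : 7 ≤ Nat.card ↥A := seven_le X h.dvd h.one_lt.ne'
  have kA : ∀ x ∈ cl (As A), kind X x = 6 := fun x hx => by
    obtain ⟨c, hc⟩ := mem_cl.1 hx
    obtain ⟨hcA, hc1⟩ := (Finset.mem_filter.1 hc).2
    refine kind_coprime X (fun e => hc1 (by rw [e]; group)) ?_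
    rw [← orderOf_conj c x]
    exact h.cop.coprime_dvd_left (Subgroup.orderOf_dvd_natCard _ hcA)
  have dis : ∀ {S T : Finset G} {i j : ℕ}, (∀ x ∈ S, kind X x = i) → (∀ x ∈ T, kind X x = j) → i ≠ j →
      Disjoint S T := fun hS hT hij => Finset.disjoint_left.2 fun x h1 h2 => hij ((hS x h1).symm.trans (hT x h2))
  have hsum : (cl (As A)).card + (cl (Ys X)).card + (cl (tYs X)).card + (cl (Zs X)).card + (cl (tZs X)).card ≤
      Nat.card G := by
    rw [Nat.card_eq_fintype_card, ← Finset.card_univ,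
      ← Finset.card_union_of_disjoint (dis kA (fun x hx => kind_Ys X hx) (by norm_num)),
      ← Finset.card_union_of_disjoint (Finset.disjoint_union_left.2
        ⟨dis kA (fun x hx => kind_tYs X hx) (by norm_num),
         dis (fun x hx => kind_Ys X hx) (fun x hx => kind_tYs X hx) (by norm_num)⟩),
      ← Finset.card_union_of_disjoint (Finset.disjoint_union_left.2 ⟨Finset.disjoint_union_left.2
        ⟨dis kA (fun x hx => kind_Zs X hx) (by norm_num),
         dis (fun x hx => kind_Ys X hx) (fun x hx => kind_Zs X hx) (by norm_num)⟩,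
         dis (fun x hx => kind_tYs X hx) (fun x hx => kind_Zs X hx) (by norm_num)⟩),
      ← Finset.card_union_of_disjoint (Finset.disjoint_union_left.2 ⟨Finset.disjoint_union_left.2
        ⟨Finset.disjoint_union_left.2 ⟨dis kA (fun x hx => kind_tZs X hx) (by norm_num),
         dis (fun x hx => kind_Ys X hx) (fun x hx => kind_tZs X hx) (by norm_num)⟩,
         dis (fun x hx => kind_tYs X hx) (fun x hx => kind_tZs X hx) (by norm_num)⟩,
         dis (fun x hx => kind_Zs X hx) (fun x hx => kind_tZs X hx) (by norm_num)⟩)]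
    exact Finset.card_le_univ _
  have h1 := (ti_Ys X).card_cl
  have h2 := (ti_tYs X).card_cl
  have h3 := (ti_Zs X).card_cl
  have h4 := (ti_tZs X).card_cl
  have h5 := h.ti.card_cl
  rw [card_normT X hP, card_Ys] at h1
  rw [card_normT X hP, card_tYs] at h2
  rw [card_normZ X hP, card_Zs] at h3
  rw [card_normZt X hP, card_tZs] at h4
  rw [h.card_norm, he, As, card_nontriv] at h5
  have hg : 0 < Nat.card G := Nat.card_pos
  set g := Nat.card G
  set a := Nat.card ↥A
  have hm := X.m_ge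
  have hr := X.r_ge
  have b5 : 3 * g ≤ 7 * (cl (As A)).card := by
    refine Nat.le_of_mul_le_mul_left ?_ (show 0 < 2 * a by omega)
    calc 2 * a * (3 * g) = g * (6 * a) := by ring
      _ ≤ g * (7 * (a - 1)) := Nat.mul_le_mul_left _ (by omega)
      _ = 7 * (g * (a - 1)) := by ring
      _ = _ := by rw [← h5]; simp only [As]; ring
  have b1 : 3 * g ≤ 13 * (cl (Ys X)).card := by
    refine Nat.le_of_mul_le_mul_left ?_ (show 0 < 4 * X.m by omega)
    calc 4 * X.m * (3 * g) = g * (12 * X.m) := by ring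
      _ ≤ g * (13 * (X.m - 1)) := Nat.mul_le_mul_left _ (by omega)
      _ = 13 * (g * (X.m - 1)) := by ring
      _ = _ := by rw [← h1]; ring
  have b2 : 3 * g ≤ 13 * (cl (tYs X)).card := by
    refine Nat.le_of_mul_le_mul_left ?_ (show 0 < 4 * X.m by omega)
    calc 4 * X.m * (3 * g) = g * (12 * X.m) := by ring
      _ ≤ g * (13 * (X.m - 1)) := Nat.mul_le_mul_left _ (by omega)
      _ = 13 * (g * (X.m - 1)) := by ring
      _ = _ := by rw [← h2]; ring
  have b3 : g ≤ 28 * (cl (Zs X)).card := by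
    refine Nat.le_of_mul_le_mul_left ?_ (show 0 < 24 * X.r by omega)
    calc 24 * X.r * g = g * (24 * X.r) := by ring
      _ ≤ g * (28 * (X.r - 1)) := Nat.mul_le_mul_left _ (by omega)
      _ = 28 * (g * (X.r - 1)) := by ring
      _ = _ := by rw [← h3]; ring
  have b4 : 3 * g ≤ 28 * (cl (tZs X)).card := by
    refine Nat.le_of_mul_le_mul_left ?_ (show 0 < 8 * X.r by omega)
    calc 8 * X.r * (3 * g) = g * (24 * X.r) := by ring
      _ ≤ g * (28 * (X.r - 1)) := Nat.mul_le_mul_left _ (by omega)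
      _ = 28 * (g * (X.r - 1)) := by ring
      _ = _ := by rw [← h4]; ring
  omega

theorem self_three (hP : Psl3 P) {k : P} (hk : k ∈ EP X A) (hk3 : orderOf k = 3) {l : P} (hl : l ∈ EP X A)
    (hc : l * k = k * l) : l ∈ zpowers k := by
  haveI := X.S.lp.finiteP
  have hk1 : k ≠ 1 := fun e => by rw [e, orderOf_one] at hk3; omega
  have hl3 : l ^ 3 = 1 := by
    obtain ⟨c, hU | hY | hZ⟩ := X.odd_class (k := k) (by rw [hk3]; decide) hk1
    · have hlU := X.S.lp.cent_root hU (fun e => hk1 (conj_eq_one_iff.1 e)) (x := c * l * c⁻¹)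
        (by rw [conj_mul, conj_mul, hc])
      refine hP.exp l X.e ?_
      have hh : (⟨_, hlU⟩ : ↥X.S.lp.K.U) ^ Nat.card ↥X.S.lp.K.U = 1 := pow_card_eq_one'
      rw [X.S.lp.K.card_U] at hh
      have h' : (c * l * c⁻¹) ^ X.q = 1 := congrArg Subtype.val hh
      rw [conj_pow, conj_eq_one_iff, X.q_three] at h'
      exact h'
    · exact absurd (hk3 ▸ orderOf_conj c k ▸ ord_Y X hY) X.S.lp.not_three_dvd_m
    · exact absurd (hk3 ▸ orderOf_conj c k ▸ ord_Z X hZ) X.S.lp.not_three_dvd_r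
  by_contra hlk
  letI : CommGroup ↥A := { (inferInstance : Group ↥A) with mul_comm := fun a b => Subtype.ext (h.comm _ a.2 _ b.2) }
  let ρ : ↥(EP X A) →* MulAut ↥A :=
    A.normalizerMonoidHom.comp
      { toFun := fun k => ⟨X.ι k, ((mem_EP X).1 k.2).1⟩
        map_one' := Subtype.ext (map_one _)
        map_mul' := fun _ _ => Subtype.ext (map_mul _ _ _) }
  have norm : ∀ (j : ↥(EP X A)), j ^ 3 = 1 → j ≠ 1 → ∀ x : ↥A, x * ρ j x * ρ j (ρ j x) = 1 := by
    intro j hj hj1 x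
    have h3 : ρ j (ρ j (ρ j x)) = x := by
      rw [← MulAut.mul_apply, ← MulAut.mul_apply, ← map_mul, ← map_mul, ← pow_two, ← pow_succ, hj,
        map_one, MulAut.one_apply]
    set y := x * ρ j x * ρ j (ρ j x) with hy
    have hfix : ρ j y = y := by
      rw [hy, map_mul, map_mul, h3]
      rw [mul_comm (ρ j x * ρ j (ρ j x)) x, mul_assoc]
    by_contra hy1
    refine hj1 (Subtype.ext (h.free_EP j.2 y.2 (fun e => hy1 (Subtype.ext e)) ?_))
    exact mul_inv_eq_iff_eq_mul.1 (congrArg Subtype.val hfix)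
  set K : ↥(EP X A) := ⟨k, hk⟩
  set L : ↥(EP X A) := ⟨l, hl⟩
  have hKL : Commute L K := Subtype.ext hc
  have hK3 : K ^ 3 = 1 := Subtype.ext (show k ^ 3 = 1 by rw [← hk3, pow_orderOf_eq_one])
  have hL3 : L ^ 3 = 1 := Subtype.ext hl3
  have hL1 : L ≠ 1 := fun e => hlk (by rw [show l = 1 from congrArg Subtype.val e]; exact one_mem _)
  have hK1 : K ≠ 1 := fun e => hk1 (congrArg Subtype.val e)
  have hKL1 : K * L ≠ 1 := fun e => hlk (by
    rw [show l = k⁻¹ from eq_inv_of_mul_eq_one_right (congrArg Subtype.val e)]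
    exact inv_mem (mem_zpowers k))
  have hKKL1 : K * K * L ≠ 1 := fun e => hlk (by
    rw [show l = (k * k)⁻¹ from eq_inv_of_mul_eq_one_right (congrArg Subtype.val e)]
    exact inv_mem (mul_mem (mem_zpowers k) (mem_zpowers k)))
  obtain ⟨a, ha, ha1⟩ := h.exists_elt
  set x : ↥A := ⟨a, ha⟩
  have e1 := norm L hL3 hL1 x
  have e2 := norm (K * L) (by rw [hKL.symm.mul_pow, hK3, hL3, one_mul]) hKL1 x
  have e3 := norm (K * K * L) (by
    rw [(hKL.symm.mul_left hKL.symm).mul_pow, (Commute.refl K).mul_pow, hK3, hL3, one_mul, one_mul]) hKKL1 x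
  have f1 := norm K hK3 hK1 (ρ L x)
  have f2 := norm K hK3 hK1 (ρ L (ρ L x))
  have cm : ∀ z : ↥A, ρ L (ρ K z) = ρ K (ρ L z) := fun z => by
    rw [← MulAut.mul_apply, ← MulAut.mul_apply, ← map_mul, ← map_mul, hKL.eq]
  have k3 : ∀ z : ↥A, ρ K (ρ K (ρ K z)) = z := fun z => by
    rw [← MulAut.mul_apply, ← MulAut.mul_apply, ← map_mul, ← map_mul, ← pow_two, ← pow_succ, hK3,
      map_one, MulAut.one_apply]
  simp only [map_mul, MulAut.mul_apply, cm, k3] at e2 e3
  have hx3 : x ^ 3 = 1 := by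
    have hab : x ^ 3 * ((ρ L x * ρ K (ρ L x) * ρ K (ρ K (ρ L x))) *
        (ρ L (ρ L x) * ρ K (ρ L (ρ L x)) * ρ K (ρ K (ρ L (ρ L x))))) =
        (x * ρ L x * ρ L (ρ L x)) * (x * ρ K (ρ L x) * ρ K (ρ K (ρ L (ρ L x)))) *
        (x * ρ K (ρ K (ρ L x)) * ρ K (ρ L (ρ L x))) := by
      rw [pow_succ, pow_two]
      ac_rfl
    rw [e1, e2, e3, f1, f2] at hab
    simpa using hab
  have hd : orderOf a ∣ 3 := orderOf_dvd_of_pow_eq_one (congrArg Subtype.val hx3)
  have hc3 := (h.cop.coprime_dvd_left (Subgroup.orderOf_dvd_natCard _ ha)).coprime_dvd_right (X.three_q.mul_right _)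
  exact ha1 (orderOf_eq_one_iff.1 (Nat.eq_one_of_dvd_coprimes hc3 dvd_rfl hd))

theorem EP_three (hP : Psl3 P) (h3 : 3 ∣ Nat.card ↥(EP X A)) : Nat.card ↥(EP X A) = 3 := by
  haveI := X.S.lp.finiteP
  haveI : Fact (Nat.Prime 3) := ⟨Nat.prime_three⟩
  obtain ⟨k, hk⟩ := exists_prime_orderOf_dvd_card' (G := ↥(EP X A)) 3 h3
  have hk1 : k ≠ 1 := fun e => by rw [e, orderOf_one] at hk; omega
  have hodd : ∀ l : ↥(EP X A), Odd (orderOf l) := fun l => h.odd_EP.of_dvd_nat (_root_.orderOf_dvd_natCard l)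
  have self : ∀ l : ↥(EP X A), l * k = k * l → l ∈ zpowers k := fun l hl => by
    obtain ⟨i, hi⟩ := mem_zpowers_iff.1 (h.self_three hP k.2 (by rw [Subgroup.orderOf_coe, hk]) l.2
      (congrArg Subtype.val hl))
    exact mem_zpowers_iff.2 ⟨i, Subtype.ext (by rw [Subgroup.coe_zpow, hi])⟩
  have hkp : IsPGroup 3 ↥(zpowers k) := IsPGroup.of_card (n := 1) (by rw [Nat.card_zpowers, hk, pow_one])
  obtain ⟨S, hS⟩ := hkp.exists_le_sylow
  haveI : Nontrivial ↥(S : Subgroup ↥(EP X A)) :=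
    nontrivial_iff.2 ⟨⟨k, hS (mem_zpowers k)⟩, 1, fun e => hk1 (congrArg Subtype.val e)⟩
  obtain ⟨z, hz1⟩ := @exists_ne _ S.isPGroup'.center_nontrivial 1
  have hzk : ((z : ↥(S : Subgroup ↥(EP X A))) : ↥(EP X A)) ∈ zpowers k :=
    self _ (congrArg Subtype.val ((mem_center_iff.1 z.2 ⟨k, hS (mem_zpowers k)⟩).symm))
  have hzgen : k ∈ zpowers ((z : ↥(S : Subgroup ↥(EP X A))) : ↥(EP X A)) := by
    have hle := zpowers_le.2 hzk
    rw [eq_of_le_of_card_ge hle ?_]
    · exact mem_zpowers k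
    rcases (Nat.dvd_prime Nat.prime_three).1 (show orderOf ((z : ↥(S : Subgroup ↥(EP X A))) : ↥(EP X A)) ∣ 3 by
      have h' := Subgroup.orderOf_dvd_natCard _ hzk
      rwa [Nat.card_zpowers, hk] at h') with e | e
    · exact absurd (Subtype.ext (Subtype.ext (orderOf_eq_one_iff.1 e))) hz1
    · rw [Nat.card_zpowers, Nat.card_zpowers, hk, e]
  have hSk : (S : Subgroup ↥(EP X A)) = zpowers k := by
    refine le_antisymm (fun s hs => self s ?_) hS
    obtain ⟨i, hi⟩ := mem_zpowers_iff.1 hzgen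
    have hcz : Commute s ((z : ↥(S : Subgroup ↥(EP X A))) : ↥(EP X A)) :=
      congrArg Subtype.val (mem_center_iff.1 z.2 ⟨s, hs⟩)
    rw [← hi]
    exact hcz.zpow_right i
  have hburn : normalizer ((S : Subgroup ↥(EP X A)) : Set ↥(EP X A)) ≤
      centralizer ((S : Subgroup ↥(EP X A)) : Set ↥(EP X A)) := by
    intro n hn
    rw [hSk] at hn ⊢
    have h2 : Commute (n * n) k := by
      obtain ⟨i, hi⟩ := mem_zpowers_iff.1 ((mem_normalizer_iff.1 hn k).1 (mem_zpowers k))
      have hi3 : i % 3 = 0 ∨ i % 3 = 1 ∨ i % 3 = 2 := by omega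
      rw [← zpow_mod_orderOf, hk] at hi
      rcases hi3 with e | e | e <;> simp only [Nat.cast_ofNat, e] at hi
      · rw [zpow_zero, eq_comm, conj_eq_one_iff] at hi
        exact absurd hi hk1
      · rw [zpow_one] at hi
        have := mul_inv_eq_iff_eq_mul.1 hi.symm
        exact (show Commute n k from this).mul_left this
      · refine mul_inv_eq_iff_eq_mul.1 ?_
        rw [show n * n * k * (n * n)⁻¹ = n * (n * k * n⁻¹) * n⁻¹ by group, ← hi, zpow_two, ← conj_mul, ← hi, zpow_two]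
        have h3' : k ^ 3 = 1 := by rw [← hk, pow_orderOf_eq_one]
        rw [show k * k * (k * k) = k ^ 3 * k by rw [pow_succ, pow_two]; group, h3', one_mul]
    obtain ⟨d, hd⟩ := hodd n
    have hnk : Commute n k := by
      have e : n = (n * n) ^ (d + 1) := by
        rw [← pow_two, ← pow_mul, show 2 * (d + 1) = orderOf n + 1 by omega, pow_succ, pow_orderOf_eq_one, one_mul]
      rw [e]; exact h2.pow_left _
    refine mem_centralizer_iff.2 fun y hy => ?_
    obtain ⟨i, rfl⟩ := mem_zpowers_iff.1 hy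
    exact (hnk.zpow_right i).eq.symm
  set N := (MonoidHom.transferSylow S hburn).ker with hN
  have hcompl : IsComplement' N (S : Subgroup ↥(EP X A)) := MonoidHom.ker_transferSylow_isComplement' S hburn
  have hcard := hcompl.card_mul
  rw [hSk, Nat.card_zpowers, hk] at hcard
  suffices hbot : N = ⊥ by
    rw [hbot, card_bot, one_mul] at hcard
    exact hcard.symm
  haveI hNn : N.Normal := by rw [hN]; infer_instance
  have hdis := hcompl.disjoint
  let σ : ↥N →* ↥N := ((MulAut.conj k).toMonoidHom.comp N.subtype).codRestrict N fun y => hNn.conj_mem _ y.2 k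
  have hfpf : MonoidHom.FixedPointFree σ := fun y hy => Subtype.ext (by
    have e : k * (y : ↥(EP X A)) * k⁻¹ = y := congrArg Subtype.val hy
    have hS' : (y : ↥(EP X A)) ∈ (S : Subgroup ↥(EP X A)) :=
      hSk ▸ self _ (mul_inv_eq_iff_eq_mul.1 e).symm
    exact Subgroup.mem_bot.1 (hdis.le_bot ⟨y.2, hS'⟩))
  have hσ3 : ∀ y, σ (σ (σ y)) = y := fun y => Subtype.ext (by
    show k * (k * (k * (y : ↥(EP X A)) * k⁻¹) * k⁻¹) * k⁻¹ = y
    have h3' : k ^ 3 = 1 := by rw [← hk, pow_orderOf_eq_one]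
    rw [pow_succ, pow_two] at h3'
    rw [show k * (k * (k * (y : ↥(EP X A)) * k⁻¹) * k⁻¹) * k⁻¹ = k * k * k * y * (k * k * k)⁻¹ by group, h3', one_mul,
      inv_one, mul_one])
  have hcomm : ∀ y : ↥N, Commute (σ y) y := by
    intro y
    set x := σ (σ y) with hx
    obtain ⟨g, hg⟩ := hfpf.commutatorMap_surjective x
    rw [MonoidHom.commutatorMap_apply] at hg
    have hfpf2 : MonoidHom.FixedPointFree (σ.comp σ) := fun z hz => hfpf z (by
      have h' := congrArg σ (show σ (σ z) = z from hz)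
      rw [hσ3] at h'
      exact h'.symm)
    obtain ⟨g', hg'⟩ := hfpf2.commutatorMap_surjective x
    rw [MonoidHom.commutatorMap_apply, MonoidHom.comp_apply] at hg'
    have a1 : x * σ x * σ (σ x) = 1 := by
      rw [← hg]; simp only [div_eq_mul_inv, map_mul, map_inv, hσ3]; group
    have a2 : x * σ (σ x) * σ x = 1 := by
      rw [← hg']; simp only [div_eq_mul_inv, map_mul, map_inv, hσ3]; group
    have a3 : σ x * σ (σ x) = σ (σ x) * σ x := by
      rw [mul_assoc] at a1 a2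
      rw [eq_inv_of_mul_eq_one_right a1, eq_inv_of_mul_eq_one_right a2]
    rw [hx, hσ3] at a3
    exact a3.symm
  refine (eq_bot_iff_forall _).2 fun y hy => ?_
  by_contra hy1
  have hyP1 : (y : P) ≠ 1 := fun e => hy1 (Subtype.ext e)
  have hy3 : ¬ 3 ∣ orderOf (y : P) := by
    rw [Subgroup.orderOf_coe]
    intro h3'
    have hz : y ^ (orderOf y / 3) ∈ N := pow_mem hy _
    have hzo : orderOf (y ^ (orderOf y / 3)) = 3 := orderOf_pow_orderOf_div (orderOf_pos y).ne' h3'
    have hd : 3 ∣ Nat.card ↥N := hzo ▸ Subgroup.orderOf_dvd_natCard _ hz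
    have hS3 : Nat.card ↥(S : Subgroup ↥(EP X A)) = 3 := by rw [hSk, Nat.card_zpowers, hk]
    have hnd := S.not_dvd_index' (by rw [Subgroup.relIndex]; exact index_ne_zero_of_finite)
    rw [hcompl.index_eq_card] at hnd
    exact hnd hd
  have hflip := hP.flip (y : P) (k : P) hyP1 (by rw [Subgroup.orderOf_coe]; exact hodd y) hy3
    (congrArg (fun z : ↥N => ((z : ↥(EP X A)) : P)) (hcomm ⟨y, hy⟩).eq) fun hc => hy1 (by
      have e : σ ⟨y, hy⟩ = ⟨y, hy⟩ := Subtype.ext (Subtype.ext (mul_inv_eq_iff_eq_mul.2 hc.eq))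
      exact congrArg Subtype.val (hfpf _ e))
  have hinv : σ ⟨y, hy⟩ = (⟨y, hy⟩ : ↥N)⁻¹ := Subtype.ext (Subtype.ext hflip)
  have h3i := hσ3 ⟨y, hy⟩
  rw [hinv, map_inv, hinv, inv_inv, hinv] at h3i
  refine Sys.sq_ne_one (k := (y : P)) (by rw [Subgroup.orderOf_coe]; exact hodd y) hyP1 ?_
  have e : ((y : P))⁻¹ = y := congrArg (fun z : ↥N => ((z : ↥(EP X A)) : P)) h3i
  nth_rewrite 1 [← e]
  exact inv_mul_cancel _

theorem E_ge (hP : Psl3 P) : 6 ≤ Nat.card ↥(E X A) := by
  have h1 := h.E_ne_two hP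
  rw [h.card_E] at h1 ⊢
  obtain ⟨d, hd⟩ := h.odd_EP
  omega

theorem E_three (hP : Psl3 P) (h3 : 3 ∣ Nat.card ↥(E X A)) : Nat.card ↥(E X A) = 6 := by
  rw [h.card_E] at h3 ⊢
  rw [h.EP_three hP ((Nat.Coprime.dvd_of_dvd_mul_left (by norm_num) h3))]

end WTor

end Cfsg.Agent.Invol.PiHom.Ree
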