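import Cfsg.Agent.Lib.Invol.PiHom.Ree.TI

/-!
The Sylow 3-subgroup: the elements it contributes to those inverted by the involution; the exact number of
involutions commuting with the involution.
-/

set_option autoImplicit false
set_option linter.unusedSectionVars false
set_option linter.style.haveILetI false

namespace Cfsg.Agent.Invol.PiHom.Ree

open Subgroup
open Cfsg.Agent.Invol.CycTI.Ree
open scoped _root_.Classical

universe u v

variable {G : Type u} [Group G] [Fintype G] {P : Type v} [Group P] (X : Sys G P)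

/-- The elements of the Sylow subgroup inverted by the involution. -/
noncomputable def J : Finset G := Finset.univ.filter fun x => x ∈ X.Q ∧ Inverts X.t x

theorem mem_J {x : G} : x ∈ J X ↔ x ∈ X.Q ∧ Inverts X.t x := by simp [J]

theorem one_mem_J : (1 : G) ∈ J X := (mem_J X).2 ⟨one_mem _, by simp [Inverts]⟩

theorem sqrt_J {x : G} (hx : x ∈ J X) : ∃ y ∈ J X, y * y = x := by
  obtain ⟨hxQ, hxi⟩ := (mem_J X).1 hx
  obtain ⟨j, hj⟩ := exists_pow_eq_self_of_coprime (x := x) (n := 2) (by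
    refine Nat.Coprime.coprime_dvd_right (orderOf_dvd_of_pow_eq_one (X.pow_Q hxQ)) ?_
    exact Nat.Coprime.pow_right _ (by decide))
  refine ⟨x ^ j, (mem_J X).2 ⟨pow_mem hxQ j, ?_⟩, by rw [← pow_add, ← two_mul, pow_mul, hj]⟩
  unfold Inverts at *
  rw [← conj_pow, hxi, inv_pow]

theorem card_Q_filter : (Finset.univ.filter fun x => x ∈ X.Q).card = X.q ^ 3 := by
  rw [← Fintype.card_subtype, ← Nat.card_eq_fintype_card]; exact X.hc

theorem card_Um_filter : (Finset.univ.filter fun x => x ∈ X.S.Um).card = X.q := by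
  rw [← Fintype.card_subtype, ← Nat.card_eq_fintype_card]; exact X.card_Um

theorem card_J : (J X).card = X.q ^ 2 := by
  let φ : G → G := fun y => y⁻¹ * (X.t * y * X.t⁻¹)
  have hφ : ∀ y ∈ Finset.univ.filter (fun x => x ∈ X.Q), φ y ∈ J X := fun y hy => by
    refine (mem_J X).2 ⟨mul_mem (inv_mem (Finset.mem_filter.1 hy).2)
      ((mem_normalizer_iff.1 (X.hT X.t_mem) y).1 (Finset.mem_filter.1 hy).2), ?_⟩
    show X.t * (y⁻¹ * (X.t * y * X.t⁻¹)) * X.t⁻¹ = (y⁻¹ * (X.t * y * X.t⁻¹))⁻¹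
    rw [show X.t * (y⁻¹ * (X.t * y * X.t⁻¹)) * X.t⁻¹ = X.t * y⁻¹ * X.t * y * (X.t * X.t)⁻¹ by group, X.tt,
      inv_one, mul_one, _root_.mul_inv_rev, _root_.mul_inv_rev, _root_.mul_inv_rev, inv_inv, inv_inv,
      show X.t⁻¹ = X.t from X.S.t_inv]
    group
  have h := Finset.card_eq_sum_card_fiberwise hφ
  rw [Finset.sum_const_nat (m := X.q), card_Q_filter] at h
  · refine Nat.eq_of_mul_eq_mul_right (show 0 < X.q by have := X.q_ge; omega) (h.symm.trans ?_)
    ring
  intro x hx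
  obtain ⟨y, hy, rfl⟩ := sqrt_J X hx
  obtain ⟨hyQ, hyi⟩ := (mem_J X).1 hy
  have hφy : φ y⁻¹ = y * y := by
    show (y⁻¹)⁻¹ * (X.t * y⁻¹ * X.t⁻¹) = y * y
    rw [inv_inv, ← conj_inv, hyi, inv_inv]
  rw [← card_Um_filter X]
  refine Finset.card_nbij' (fun z => z * y) (fun a => a * y⁻¹) ?_ ?_ ?_ ?_
  · intro z hz
    obtain ⟨hzQ, hze⟩ := Finset.mem_filter.1 hz
    have hzQ' := (Finset.mem_filter.1 hzQ).2
    refine Finset.mem_filter.2 ⟨Finset.mem_univ _, X.t_fix (mul_mem hzQ' hyQ) ?_⟩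
    have e : X.t * z * X.t⁻¹ = z * (y * y) := inv_mul_eq_iff_eq_mul.1 hze
    refine (mul_inv_eq_iff_eq_mul.1 ?_).symm
    rw [show X.t * (z * y) * X.t⁻¹ = X.t * z * X.t⁻¹ * (X.t * y * X.t⁻¹) by group, e, hyi]
    group
  · intro a ha
    have ha' := (Finset.mem_filter.1 ha).2
    refine Finset.mem_filter.2 ⟨Finset.mem_filter.2 ⟨Finset.mem_univ _, mul_mem (X.hUQ ha') (inv_mem hyQ)⟩, ?_⟩
    show (a * y⁻¹)⁻¹ * (X.t * (a * y⁻¹) * X.t⁻¹) = y * y
    rw [show (a * y⁻¹)⁻¹ * (X.t * (a * y⁻¹) * X.t⁻¹) = y * (a⁻¹ * (X.t * a)) * y⁻¹ * X.t⁻¹ by group,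
      ← X.Um_fix ha', inv_mul_cancel_left, mul_assoc, mul_assoc, ← mul_assoc X.t, ← conj_inv, hyi, inv_inv]
  · intro z _; simp
  · intro a _; simp

/-- The class representatives in the Sylow subgroup. -/
noncomputable def Qs : Finset G := Finset.univ.filter fun x => x ∈ X.Q ∧ x ≠ 1

theorem ti_Qs : TISet (Qs X) (normalizer (X.Q : Set G)) where
  stab := fun c hc h hh => by
    obtain ⟨hQ, h1⟩ := (Finset.mem_filter.1 hh).2
    exact Finset.mem_filter.2 ⟨Finset.mem_univ _, (mem_normalizer_iff.1 hc h).1 hQ, fun e =>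
      h1 (conj_eq_one_iff.1 e)⟩
  ti := fun c h hh hch => by
    by_contra hc
    exact (Finset.mem_filter.1 hh).2.2 (X.isTI c hc h (Finset.mem_filter.1 hh).2.1 (Finset.mem_filter.1 hch).2.1)

theorem card_Qs : (Qs X).card = X.q ^ 3 - 1 := by
  rw [← card_Q_filter X, show Qs X = (Finset.univ.filter fun x => x ∈ X.Q).erase 1 by
    ext x; simp [Qs, and_comm], Finset.card_erase_of_mem (by simp)]

theorem invol_N {s : G} (hs2 : orderOf s = 2) (hsN : s ∈ normalizer (X.Q : Set G)) :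
    X.t * s ∈ J X := by
  have hss : s * s = 1 := by rw [← pow_two, ← hs2, pow_orderOf_eq_one]
  obtain ⟨τ, hτ, x, hx, rfl⟩ := X.N_elim hsN
  have hτN := X.hT hτ
  have hτ2 : τ * τ = 1 := by
    refine X.T_inf_Q (mul_mem hτ hτ) ?_
    have e : τ * τ = (τ * x * τ⁻¹)⁻¹ * (τ * x * (τ * x)) * (x⁻¹) := by group
    rw [e, hss, mul_one]
    exact mul_mem (inv_mem ((mem_normalizer_iff.1 hτN x).1 hx)) (inv_mem hx)
  obtain ⟨y, hy, hτy⟩ := X.S.mem_T hτ
  rcases X.S.invol_T hy hτy hτ2 with rfl | rfl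
  · exfalso
    rw [one_mul] at hs2
    have hd := orderOf_dvd_of_pow_eq_one (X.pow_Q hx)
    rw [hs2] at hd
    exact absurd ((Nat.prime_dvd_prime_iff_eq Nat.prime_two Nat.prime_three).1
      (Nat.prime_two.dvd_of_dvd_pow hd)) (by norm_num)
  · rw [← mul_assoc, X.tt, one_mul]
    refine (mem_J X).2 ⟨hx, ?_⟩
    unfold Inverts
    rw [show X.t⁻¹ = X.t from X.S.t_inv]
    exact eq_inv_of_mul_eq_one_left (by rw [← hss]; group)

theorem pairs_Qs : (pairs (Qs X)).card = X.q ^ 2 * (X.q ^ 2 - 1) := by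
  have hS : (Finset.univ.filter fun s => orderOf s = 2 ∧ s ∈ normalizer (X.Q : Set G)).card = X.q ^ 2 := by
    rw [← card_J X]
    refine Finset.card_nbij' (fun s => X.t * s) (fun x => X.t * x) ?_ ?_ ?_ ?_
    · intro s hs
      exact invol_N X (Finset.mem_filter.1 hs).2.1 (Finset.mem_filter.1 hs).2.2
    · intro x hx
      obtain ⟨hxQ, hxi⟩ := (mem_J X).1 hx
      refine Finset.mem_filter.2 ⟨Finset.mem_univ _, orderOf_eq_prime ?_ fun e => ?_,
        mul_mem (X.hT X.t_mem) (le_normalizer hxQ)⟩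
      · rw [pow_two, show X.t * x * (X.t * x) = X.t * x * X.t⁻¹ * (X.t * X.t) * x by group, X.tt, mul_one, hxi,
          inv_mul_cancel]
      · refine X.t_ne (X.T_inf_Q X.t_mem ?_)
        rw [eq_inv_of_mul_eq_one_left e]; exact inv_mem hxQ
    · intro s _
      show X.t * (X.t * s) = s
      rw [← mul_assoc, X.tt, one_mul]
    · intro s _
      show X.t * (X.t * s) = s
      rw [← mul_assoc, X.tt, one_mul]
  rw [Finset.card_eq_sum_card_fiberwise (f := fun p : G × G => p.1)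
    (t := Finset.univ.filter fun s => orderOf s = 2 ∧ s ∈ normalizer (X.Q : Set G)) fun p hp => ?_]
  · rw [Finset.sum_const_nat (m := X.q ^ 2 - 1), hS]
    intro s hs
    obtain ⟨hs2, hsN⟩ := (Finset.mem_filter.1 hs).2
    obtain ⟨y, hy, hyy⟩ := sqrt_J X (invol_N X hs2 hsN)
    obtain ⟨hyQ, hyi⟩ := (mem_J X).1 hy
    have hsy : y⁻¹ * X.t * y = s := by
      rw [show y⁻¹ * X.t * y = (X.t * y * X.t⁻¹) * X.t * y by rw [hyi], show X.t * y * X.t⁻¹ * X.t * y = X.t * (y * y) by
        group, hyy, ← mul_assoc, X.tt, one_mul]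
    rw [← card_J X, ← Finset.card_erase_of_mem (one_mem_J X)]
    refine Finset.card_nbij' (fun p : G × G => y * p.2 * y⁻¹) (fun x => (s, y⁻¹ * x * y)) ?_ ?_ ?_ ?_
    · intro p hp
      obtain ⟨hp1, hp2⟩ := Finset.mem_filter.1 hp
      obtain ⟨hh, -, hi⟩ := mem_pairs.1 hp1
      obtain ⟨hhQ, hh1⟩ := (Finset.mem_filter.1 hh).2
      refine Finset.mem_erase.2 ⟨fun e => hh1 (conj_eq_one_iff.1 e),
        (mem_J X).2 ⟨mul_mem (mul_mem hyQ hhQ) (inv_mem hyQ), ?_⟩⟩
      rw [hp2, ← hsy] at hi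
      convert (inverts_conj y).2 hi using 1
      group
    · intro x hx
      obtain ⟨hx1, hxJ⟩ := Finset.mem_erase.1 hx
      obtain ⟨hxQ, hxi⟩ := (mem_J X).1 hxJ
      refine Finset.mem_filter.2 ⟨mem_pairs.2 ⟨Finset.mem_filter.2 ⟨Finset.mem_univ _,
        mul_mem (mul_mem (inv_mem hyQ) hxQ) hyQ, fun e => hx1 ?_⟩, hs2, ?_⟩, rfl⟩
      · have := congrArg (fun z => y * z * y⁻¹) e
        simpa [mul_assoc] using this
      · show Inverts s (y⁻¹ * x * y)
        rw [← hsy]
        have := (inverts_conj y⁻¹).2 hxi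
        rwa [inv_inv] at this
    · intro p hp
      refine Prod.ext (Finset.mem_filter.1 hp).2.symm ?_
      show y⁻¹ * (y * p.2 * y⁻¹) * y = p.2
      group
    · intro x _
      show y * (y⁻¹ * x * y) * y⁻¹ = x
      group
  · obtain ⟨hh, h2, hi⟩ := mem_pairs.1 hp
    obtain ⟨hhQ, hh1⟩ := (Finset.mem_filter.1 hh).2
    refine Finset.mem_filter.2 ⟨Finset.mem_univ _, h2, by_contra fun hn => hh1 (X.isTI _ hn _ hhQ ?_)⟩
    rw [hi]; exact inv_mem hhQ

theorem card_invP_eq : Nat.card {k : P // IsConj X.S.lp.D.u k} = X.q * X.m := by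
  haveI := X.S.lp.finiteP
  set D := X.S.lp.D
  have hle : Nat.card ↥(centralizer ({D.u} : Set P)) ≤ 4 * X.r := by
    let f : Bool × Bool × ↥D.Y → P := fun p =>
      (if p.1 then D.u else 1) * (if p.2.1 then D.w else 1) * (p.2.2 : P)
    calc Nat.card ↥(centralizer ({D.u} : Set P)) ≤ Nat.card ↥(Set.range f) := by
          refine Nat.card_mono (Set.toFinite _) fun x hx => ?_
          obtain ⟨y, hy, e | e | e | e⟩ := D.cent_u x (mem_centralizer_singleton_iff.1 hx)
          · exact ⟨(false, false, ⟨y, hy⟩), by simp [f, e]⟩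
          · exact ⟨(true, false, ⟨y, hy⟩), by simp [f, e]⟩
          · exact ⟨(false, true, ⟨y, hy⟩), by simp [f, e]⟩
          · exact ⟨(true, true, ⟨y, hy⟩), by simp [f, e]⟩
      _ ≤ Nat.card (Bool × Bool × ↥D.Y) := Finite.card_range_le f
      _ = _ := by
          rw [Nat.card_prod, Nat.card_prod, Nat.card_eq_fintype_card (α := Bool), Fintype.card_bool, D.card_Y]
          ring
  have heq : Nat.card ↥(centralizer ({D.u} : Set P)) = 4 * X.r := le_antisymm hle X.cent_u_card_ge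
  have h := (centralizer ({D.u} : Set P)).card_mul_index
  rw [← Char.card_conjClass, X.S.lp.card_P, heq] at h
  refine Nat.eq_of_mul_eq_mul_left (show 0 < 4 * X.r by have := X.r_ge; omega) (h.trans ?_)
  show 4 * X.r * X.m * X.q = _
  ring

theorem card_invC_eq : (Sys.invC X.t).card + X.q = X.q ^ 2 + 1 := by
  haveI := X.S.lp.finiteP
  haveI : Fintype P := Fintype.ofFinite P
  set IP : Finset P := Finset.univ.filter fun k => IsConj X.S.lp.D.u k with hIP
  have hIc : IP.card = X.q * X.m := by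
    rw [← Fintype.card_subtype, ← Nat.card_eq_fintype_card]; exact card_invP_eq X
  have hI : ∀ k ∈ IP, k * k = 1 ∧ k ≠ 1 := fun k hk => by
    obtain ⟨c, rfl⟩ := isConj_iff.1 (Finset.mem_filter.1 hk).2
    refine ⟨by rw [conj_mul, X.S.lp.D.u2, mul_one, mul_inv_cancel], fun e => X.S.lp.D.u1 (conj_eq_one_iff.1 e)⟩
  have hset : Sys.invC X.t = IP.image X.ι ∪ (insert 1 IP).image fun k => X.t * X.ι k := by
    ext s
    rw [Sys.mem_invC, Finset.mem_union, Finset.mem_image, Finset.mem_image]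
    constructor
    · rintro ⟨hs2, hst⟩
      have hss : s * s = 1 := by rw [← pow_two, ← hs2, pow_orderOf_eq_one]
      obtain ⟨k, rfl | rfl⟩ := X.S.B.cover s hst
      · refine Or.inl ⟨k, Finset.mem_filter.2 ⟨Finset.mem_univ _, X.S.lp.D.one_class k
          (X.S.B.inj (by rw [map_mul, map_one]; exact hss)) fun e => ?_⟩, rfl⟩
        rw [e, map_one, orderOf_one] at hs2
        omega
      · refine Or.inr ⟨k, ?_, rfl⟩
        by_cases h1 : k = 1
        · exact h1 ▸ Finset.mem_insert_self _ _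
        · refine Finset.mem_insert_of_mem (Finset.mem_filter.2 ⟨Finset.mem_univ _, X.S.lp.D.one_class k ?_ h1⟩)
          refine X.S.B.inj ?_
          rw [map_one, ← X.sq_t_form]
          exact hss
    · rintro (⟨k, hk, rfl⟩ | ⟨k, hk, rfl⟩)
      · obtain ⟨h2, h1⟩ := hI k hk
        exact ⟨orderOf_eq_prime (by rw [pow_two, ← map_mul, h2, map_one]) fun e =>
          h1 (X.S.B.inj (e.trans (map_one _).symm)), X.tc k⟩
      · have h2 : k * k = 1 := by
          rcases Finset.mem_insert.1 hk with rfl | hk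
          · exact one_mul 1
          · exact (hI k hk).1
        refine ⟨orderOf_eq_prime (by rw [pow_two, X.sq_t_form, h2, map_one]) fun e =>
          X.S.B.t_not k ((eq_inv_of_mul_eq_one_right e).trans X.S.t_inv), ?_⟩
        rw [mul_assoc, X.tc]
  have hdis : Disjoint (IP.image X.ι) ((insert 1 IP).image fun k => X.t * X.ι k) := by
    rw [Finset.disjoint_left]
    intro s hs hs'
    obtain ⟨k, -, rfl⟩ := Finset.mem_image.1 hs
    obtain ⟨l, -, e⟩ := Finset.mem_image.1 hs'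
    exact X.S.B.ι_ne_tι k l e.symm
  rw [hset, Finset.card_union_of_disjoint hdis, Finset.card_image_of_injective _ X.S.B.inj,
    Finset.card_image_of_injective _ fun a b h => X.S.B.inj (mul_left_cancel h),
    Finset.card_insert_of_notMem fun h => (hI 1 h).2 rfl, hIc]
  have := X.q_m
  rw [this]; ring

end Cfsg.Agent.Invol.PiHom.Ree
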