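import Cfsg.Agent.Lib.Invol.PiHom.Ree.Tori
import Cfsg.Agent.Lib.Invol.PiHom.Ree.Root

/-!
The elements inverted by the involution: five known classes, and `q² (q² - 1) / 3` of order prime to `q (q² - 1)`.
-/

set_option autoImplicit false
set_option linter.unusedSectionVars false
set_option linter.style.haveILetI false

namespace Cfsg.Agent.Invol.PiHom.Ree

open Subgroup
open Cfsg.Agent.Invol.CycTI.Ree
open scoped _root_.Classical

universe u v

variable {G : Type u} [Group G] [Fintype G] {P : Type v} [Group P] (X : Sys G P)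

/-- The inverted elements. -/
noncomputable def inverted : Finset G := Finset.univ.filter fun x => Inverts X.t x

/-- The inverted elements of order prime to `q (q² - 1)`. -/
noncomputable def MW : Finset G :=
  Finset.univ.filter fun x => x ≠ 1 ∧ (orderOf x).Coprime (X.q * (X.q ^ 2 - 1)) ∧ Inverts X.t x

theorem mem_MW {x : G} : x ∈ MW X ↔ x ≠ 1 ∧ (orderOf x).Coprime (X.q * (X.q ^ 2 - 1)) ∧ Inverts X.t x := by
  simp [MW]

theorem card_inverted : (inverted X).card = X.q ^ 2 * (X.q ^ 2 - X.q + 1) + 1 := by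
  have h1 : (inverted X).card = (insert 1 (Finset.univ.filter fun s : G => orderOf s = 2)).card := by
    refine Finset.card_equiv (Equiv.mulLeft X.t) fun x => ?_
    simp only [inverted, Finset.mem_filter, Finset.mem_univ, true_and, Equiv.coe_mulLeft, Finset.mem_insert]
    constructor
    · intro h
      have h2 : X.t * x * (X.t * x) = 1 := by
        rw [show X.t * x * (X.t * x) = X.t * x * X.t⁻¹ * (X.t * X.t) * x by group, X.tt, mul_one, h, inv_mul_cancel]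
      by_cases h3 : X.t * x = 1
      · exact Or.inl h3
      · exact Or.inr (orderOf_eq_prime (by rw [pow_two, h2]) h3)
    · intro h
      have h2 : X.t * x * (X.t * x) = 1 := by
        rcases h with h | h
        · rw [h, mul_one]
        · rw [← pow_two, ← h, pow_orderOf_eq_one]
      unfold Inverts
      refine eq_inv_of_mul_eq_one_left ?_
      rw [show X.t⁻¹ = X.t from X.S.t_inv, ← h2]; group
  rw [h1, Finset.card_insert_of_notMem (by simp), ← Fintype.card_subtype, ← Nat.card_eq_fintype_card, X.card_invol]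

theorem card_square_one : ((inverted X).filter fun x => x * x = 1).card + X.q = X.q ^ 2 + 2 := by
  have h : (inverted X).filter (fun x => x * x = 1) = insert 1 (Sys.invC X.t) := by
    ext x
    simp only [inverted, Finset.mem_filter, Finset.mem_univ, true_and, Finset.mem_insert, Sys.mem_invC]
    constructor
    · rintro ⟨hi, h2⟩
      by_cases hx : x = 1
      · exact Or.inl hx
      · refine Or.inr ⟨orderOf_eq_prime (by rw [pow_two, h2]) hx, ?_⟩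
        unfold Inverts at hi
        rw [inv_eq_of_mul_eq_one_right h2] at hi
        exact (mul_inv_eq_iff_eq_mul.1 hi).symm
    · rintro (rfl | ⟨h2, hc⟩)
      · simp [Inverts]
      · have hxx : x * x = 1 := by rw [← pow_two, ← h2, pow_orderOf_eq_one]
        refine ⟨?_, hxx⟩
        unfold Inverts
        rw [inv_eq_of_mul_eq_one_right hxx, ← hc, mul_inv_cancel_right]
  rw [h, Finset.card_insert_of_notMem (fun h => ?_)]
  · have := card_invC_eq X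
    omega
  · have := (Sys.mem_invC.1 h).1
    rw [orderOf_one] at this
    omega

theorem cop_q : X.q.Coprime (2 * X.m) ∧ X.q.Coprime (2 * X.r) ∧ X.m.Coprime X.r ∧ (2 * X.m).Coprime X.r ∧
    (2 * X.r).Coprime X.m := by
  have h1 : X.q.Coprime (2 * X.m) := by
    rw [X.q_m, Nat.coprime_comm, Nat.coprime_self_add_right]
    exact Nat.coprime_one_right _
  have h2 : X.q.Coprime (2 * X.r) := by
    refine Nat.Coprime.coprime_dvd_right (show 2 * X.r ∣ X.q + 1 from X.q_r ▸ ⟨2, by ring⟩) ?_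
    rw [Nat.coprime_self_add_right]
    exact Nat.coprime_one_right _
  have h3 : (2 * X.r).Coprime X.m := X.S.lp.coprime_r_m
  have h4 : X.m.Coprime X.r := (h3.coprime_dvd_left (Dvd.intro_left 2 rfl)).symm
  exact ⟨h1, h2, h4, Nat.Coprime.mul_left (Nat.prime_two.coprime_iff_not_dvd.2 X.S.lp.D.not_two_dvd_r) h4, h3⟩

theorem two_dvd_both {n : ℕ} (h1 : n ∣ 2 * X.m) (h2 : n ∣ 2 * X.r) : n ∣ 2 := by
  have h := Nat.dvd_gcd h1 h2
  rwa [Nat.gcd_mul_left, (cop_q X).2.2.1.gcd_eq_one, mul_one] at h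

theorem sq_ne_of_odd {x : G} (hx : x ≠ 1) {n : ℕ} (hn : Odd n) (h : orderOf x ∣ n) : x * x ≠ 1 := fun e => by
  have h2 : orderOf x = 2 := orderOf_eq_prime (by rw [pow_two, e]) hx
  rw [h2] at h
  exact absurd (hn.of_dvd_nat h) (by decide)

theorem cl_order {Hs : Finset G} {Q : ℕ → Prop} {x : G} (h : ∀ y ∈ Hs, Q (orderOf y)) (hx : x ∈ cl Hs) :
    Q (orderOf x) := by
  obtain ⟨c, hc⟩ := mem_cl.1 hx
  rw [← orderOf_conj c x]
  exact h _ hc

/-- The kind of an element. -/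
noncomputable def kind (x : G) : ℕ :=
  if x * x = 1 then 0 else if orderOf x ∣ X.m then 1 else if orderOf x ∣ 2 * X.m then 2
  else if orderOf x ∣ X.r then 3 else if orderOf x ∣ 2 * X.r then 4 else if orderOf x ∣ X.q ^ 3 then 5 else 6

theorem sq_iff (x : G) : x * x = 1 ↔ orderOf x ∣ 2 := by rw [orderOf_dvd_iff_pow_eq_one, pow_two]

theorem tι_pow {k : P} {n : ℕ} (hn : Odd n) (hk : k ^ n = 1) : (X.t * X.ι k) ^ n = X.t := by
  have hc : Commute X.t (X.ι k) := (X.tc k).symm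
  obtain ⟨d, rfl⟩ := hn
  rw [hc.mul_pow, ← map_pow, hk, map_one, mul_one, pow_succ, pow_mul, pow_two, X.tt, one_pow, one_mul]

theorem kind_Ys {x : G} (hx : x ∈ cl (Ys X)) : kind X x = 1 := by
  obtain ⟨h1, h2⟩ : orderOf x ∣ X.m ∧ orderOf x ≠ 1 := cl_order (Q := fun n => n ∣ X.m ∧ n ≠ 1) (fun y hy => by
    obtain ⟨z, hz, hz1, rfl⟩ := (mem_Ys X).1 hy
    rw [orderOf_ι]
    exact ⟨ord_Y X hz, fun e => hz1 (orderOf_eq_one_iff.1 e)⟩) hx
  rw [kind, if_neg (sq_ne_of_odd (fun e => h2 (by rw [e, orderOf_one])) X.m_odd h1), if_pos h1]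

theorem kind_tYs {x : G} (hx : x ∈ cl (tYs X)) : kind X x = 2 := by
  obtain ⟨h1, h2, h3⟩ : orderOf x ∣ 2 * X.m ∧ ¬ orderOf x ∣ X.m ∧ ¬ orderOf x ∣ 2 :=
    cl_order (Q := fun n => n ∣ 2 * X.m ∧ ¬ n ∣ X.m ∧ ¬ n ∣ 2) (fun y hy => by
      obtain ⟨z, hz, hz1, rfl⟩ := (mem_tYs X).1 hy
      have h := tι_pow X X.m_odd (X.S.lp.pow_m hz)
      refine ⟨orderOf_dvd_of_pow_eq_one (by rw [mul_comm 2, pow_mul, h, pow_two, X.tt]), fun e => X.t_ne ?_, fun e => ?_⟩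
      · rw [← h, orderOf_dvd_iff_pow_eq_one.1 e]
      · rw [← sq_iff, X.sq_t_form] at e
        exact Sys.sq_ne_one (X.m_odd.of_dvd_nat (ord_Y X hz)) hz1 (X.S.B.inj (e.trans (map_one _).symm))) hx
  rw [kind, if_neg (fun e => h3 ((sq_iff x).1 e)), if_neg h2, if_pos h1]

theorem kind_Zs {x : G} (hx : x ∈ cl (Zs X)) : kind X x = 3 := by
  obtain ⟨h1, h2⟩ : orderOf x ∣ X.r ∧ orderOf x ≠ 1 := cl_order (Q := fun n => n ∣ X.r ∧ n ≠ 1) (fun y hy => by
    obtain ⟨z, hz, hz1, rfl⟩ := (mem_Zs X).1 hy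
    rw [orderOf_ι]
    exact ⟨ord_Z X hz, fun e => hz1 (orderOf_eq_one_iff.1 e)⟩) hx
  have hm : ¬ orderOf x ∣ 2 * X.m := fun e => h2 (Nat.eq_one_of_dvd_coprimes (cop_q X).2.2.2.1 e h1)
  rw [kind, if_neg (sq_ne_of_odd (fun e => h2 (by rw [e, orderOf_one])) X.r_odd h1),
    if_neg (fun e => hm (e.trans (Dvd.intro_left 2 rfl))), if_neg hm, if_pos h1]

theorem kind_tZs {x : G} (hx : x ∈ cl (tZs X)) : kind X x = 4 := by
  obtain ⟨h1, h2, h3⟩ : orderOf x ∣ 2 * X.r ∧ ¬ orderOf x ∣ X.r ∧ ¬ orderOf x ∣ 2 :=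
    cl_order (Q := fun n => n ∣ 2 * X.r ∧ ¬ n ∣ X.r ∧ ¬ n ∣ 2) (fun y hy => by
      obtain ⟨z, hz, hz1, rfl⟩ := (mem_tZs X).1 hy
      have h := tι_pow X X.r_odd (X.S.lp.D.pow_r hz)
      refine ⟨orderOf_dvd_of_pow_eq_one (by rw [mul_comm 2, pow_mul, h, pow_two, X.tt]), fun e => X.t_ne ?_, fun e => ?_⟩
      · rw [← h, orderOf_dvd_iff_pow_eq_one.1 e]
      · rw [← sq_iff, X.sq_t_form] at e
        exact Sys.sq_ne_one (X.S.lp.D.odd_Y hz) hz1 (X.S.B.inj (e.trans (map_one _).symm))) hx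
  have hm : ¬ orderOf x ∣ 2 * X.m := fun e => h3 (two_dvd_both X e h1)
  rw [kind, if_neg (fun e => h3 ((sq_iff x).1 e)), if_neg (fun e => hm (e.trans (Dvd.intro_left 2 rfl))),
    if_neg hm, if_neg h2, if_pos h1]

theorem kind_Qs {x : G} (hx : x ∈ cl (Qs X)) : kind X x = 5 := by
  obtain ⟨h1, h2⟩ : orderOf x ∣ X.q ^ 3 ∧ orderOf x ≠ 1 := cl_order (Q := fun n => n ∣ X.q ^ 3 ∧ n ≠ 1) (fun y hy => by
    obtain ⟨hQ, hy1⟩ := (Finset.mem_filter.1 hy).2
    refine ⟨orderOf_dvd_of_pow_eq_one ?_, fun e => hy1 (orderOf_eq_one_iff.1 e)⟩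
    rw [X.q_three, ← pow_mul, mul_comm]
    exact X.pow_Q hQ) hx
  obtain ⟨c1, c2, -, -, -⟩ := cop_q X
  have hm : ¬ orderOf x ∣ 2 * X.m := fun e => h2 (Nat.eq_one_of_dvd_coprimes (c1.pow_left 3) h1 e)
  have hr : ¬ orderOf x ∣ 2 * X.r := fun e => h2 (Nat.eq_one_of_dvd_coprimes (c2.pow_left 3) h1 e)
  rw [kind, if_neg (sq_ne_of_odd (fun e => h2 (by rw [e, orderOf_one])) (X.q_odd.pow) h1),
    if_neg (fun e => hm (e.trans (Dvd.intro_left 2 rfl))), if_neg hm,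
    if_neg (fun e => hr (e.trans (Dvd.intro_left 2 rfl))), if_neg hr, if_pos h1]

theorem kind_coprime {x : G} (h1 : x ≠ 1) (hcop : (orderOf x).Coprime (X.q * (X.q ^ 2 - 1))) : kind X x = 6 := by
  have hne : orderOf x ≠ 1 := fun e => h1 (orderOf_eq_one_iff.1 e)
  have kill : ∀ d, d ∣ X.q * (X.q ^ 2 - 1) → ¬ orderOf x ∣ d := fun d hd e =>
    hne (Nat.eq_one_of_dvd_coprimes hcop dvd_rfl (e.trans hd))
  have hm2 : 2 * X.m ∣ X.q * (X.q ^ 2 - 1) := by rw [X.sq_sub]; exact ⟨4 * X.r * X.q, by ring⟩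
  have hr2 : 2 * X.r ∣ X.q * (X.q ^ 2 - 1) := by rw [X.sq_sub]; exact ⟨4 * X.m * X.q, by ring⟩
  have hq : ¬ orderOf x ∣ X.q ^ 3 := fun e =>
    hne (Nat.eq_one_of_dvd_coprimes ((hcop.coprime_dvd_right (Dvd.intro _ rfl)).pow_right 3) dvd_rfl e)
  rw [kind, if_neg (fun e => kill 2 ((dvd_mul_right 2 _).trans hm2) ((sq_iff x).1 e)),
    if_neg (kill _ ((Dvd.intro_left 2 rfl).trans hm2)), if_neg (kill _ hm2),
    if_neg (kill _ ((Dvd.intro_left 2 rfl).trans hr2)), if_neg (kill _ hr2), if_neg hq]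

/-- No element `t a`, `a` a root element, is inverted. -/
theorem no_tU {a : P} (ha : a ∈ X.S.lp.K.U) (ha1 : a ≠ 1) {s : G} (hs : s * s = 1)
    (hi : Inverts s (X.t * X.ι a)) : False := by
  haveI := X.S.lp.finiteP
  have haq : a ^ X.q = 1 := by
    have h : (⟨a, ha⟩ : ↥X.S.lp.K.U) ^ Nat.card ↥X.S.lp.K.U = 1 := pow_card_eq_one'
    rw [X.S.lp.K.card_U] at h
    exact congrArg Subtype.val h
  have hst : s * X.t = X.t * s := by
    have h := conj_pow (a := s) (b := X.t * X.ι a) (i := X.q)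
    unfold Inverts at hi
    rw [hi, inv_pow, tι_pow X X.q_odd haq, show X.t⁻¹ = X.t from X.S.t_inv] at h
    exact mul_inv_eq_iff_eq_mul.1 h.symm
  have h2 : s * X.ι (a * a) * s⁻¹ = (X.ι (a * a))⁻¹ := by
    unfold Inverts at hi
    rw [← X.sq_t_form, ← conj_mul, hi, _root_.mul_inv_rev (X.t * X.ι a) (X.t * X.ι a)]
  have haodd : Odd (orderOf a) := X.q_odd.of_dvd_nat (orderOf_dvd_of_pow_eq_one haq)
  obtain ⟨i, h3, h1⟩ := X.S.lp.exists_order_three (mul_mem ha ha) (Sys.sq_ne_one haodd ha1)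
  obtain ⟨b, hb⟩ := X.S.B.cover s hst
  have hb' : b * b = 1 ∧ b * (a * a) * b⁻¹ = (a * a)⁻¹ := by
    rcases hb with rfl | rfl
    · refine ⟨X.S.B.inj (by rw [map_mul, map_one]; exact hs), X.S.B.inj ?_⟩
      rw [map_mul, map_mul, map_inv, map_inv]
      exact h2
    · refine ⟨X.S.B.inj (by rw [map_one, ← X.sq_t_form]; exact hs), X.S.B.inj ?_⟩
      rw [← X.S.B.tc] at h2
      rw [map_mul, map_mul, map_inv, map_inv, ← h2]
      calc X.S.B.ι b * X.S.B.ι (a * a) * (X.S.B.ι b)⁻¹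
          = X.S.B.ι b * (X.S.B.ι (a * a) * X.t) * X.t⁻¹ * (X.S.B.ι b)⁻¹ := by group
        _ = X.S.B.ι b * (X.t * X.S.B.ι (a * a)) * X.t⁻¹ * (X.S.B.ι b)⁻¹ := by rw [X.tc]
        _ = _ := by group
  have hbz : b * (a * a) ^ i * b⁻¹ = ((a * a) ^ i)⁻¹ := by rw [← conj_pow, hb'.2, inv_pow]
  have hb1 := X.S.lp.rigid _ h3 h1 b 1 (by rw [pow_one, pow_two, hb'.1]) (Or.inr hbz)
  rw [hb1, one_mul, inv_one, mul_one] at hbz
  refine h1 ?_
  calc (a * a) ^ i = ((a * a) ^ i) ^ 3 * ((a * a) ^ i * (a * a) ^ i)⁻¹ := by group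
    _ = 1 := by rw [h3]; nth_rewrite 1 [hbz]; simp

theorem odd_three {x : G} {p : ℕ} (hp : p.Prime) (hpd : p ∣ orderOf x) (hpq : p ∣ X.q * (X.q ^ 2 - 1))
    (hodd : Odd (orderOf x)) : x ∈ cl (Ys X) ∨ x ∈ cl (Zs X) ∨ x ∈ cl (Qs X) := by
  set n := orderOf x with hn
  set h := x ^ (n / p) with hh
  have hho : orderOf h = p := orderOf_pow_orderOf_div (orderOf_pos x).ne' hpd
  have hxh : ∀ c : G, c * x * c⁻¹ * (c * h * c⁻¹) = c * h * c⁻¹ * (c * x * c⁻¹) := fun c => by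
    rw [conj_mul, conj_mul, (Commute.self_pow x (n / p)).eq]
  have hx1 : ∀ c : G, c * x * c⁻¹ ≠ 1 := fun c e => by
    rw [conj_eq_one_iff] at e
    rw [e, orderOf_one] at hn
    exact hp.ne_one (Nat.dvd_one.1 (hn ▸ hpd))
  have hpow : ∀ c : G, (c * x * c⁻¹) ^ n = 1 := fun c => by
    rw [conj_pow, hn, pow_orderOf_eq_one, mul_one, mul_inv_cancel]
  rcases X.prime_cases hp hpq with rfl | rfl | hm | hr
  · obtain ⟨d, hd⟩ := hodd; omega
  · obtain ⟨c, hc⟩ := X.class_three (n := 1) (by rwa [pow_one])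
    refine Or.inr (Or.inr (mem_cl.2 ⟨c, Finset.mem_filter.2 ⟨Finset.mem_univ _, ?_, hx1 c⟩⟩))
    have hb1 : c * h * c⁻¹ ≠ 1 := Sys.conj_ne_one (Sys.ne_one_of_prime Nat.prime_three hho)
    have hC : c * x * c⁻¹ ∈ centralizer ({c * h * c⁻¹} : Set G) := mem_centralizer_singleton_iff.2 (hxh c)
    have hd : n ∣ 2 * X.q ^ 3 := by
      rw [hn, ← orderOf_conj c x]
      exact (Subgroup.orderOf_dvd_natCard _ hC).trans (X.cent_Q_dvd hc hb1)
    have hd2 : n ∣ X.q ^ 3 :=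
      (Nat.coprime_two_right.2 hodd).dvd_of_dvd_mul_left hd
    refine X.three_mem (j := 3 * X.e) ?_ (X.cent_Q_le hc hb1 hC)
    rw [mul_comm, pow_mul, ← X.q_three]
    exact orderOf_dvd_iff_pow_eq_one.1 (by rwa [orderOf_conj])
  · obtain ⟨c, y, hy, hy1, e⟩ := X.class_m hp hm hho
    refine Or.inl (mem_cl.2 ⟨c, Finset.mem_filter.2 ⟨Finset.mem_univ _, ?_, hx1 c⟩⟩)
    exact odd_T X (X.cent_ym hy hy1 (e ▸ hxh c)) hodd (hpow c)
  · obtain ⟨c, y, hy, hy1, e⟩ := X.class_r hp hr hho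
    refine Or.inr (Or.inl (mem_cl.2 ⟨c, Finset.mem_filter.2 ⟨Finset.mem_univ _, ?_, hx1 c⟩⟩))
    exact odd_Cz X (X.cent_z_mem hy hy1 (e ▸ hxh c)) hodd (hpow c)

/-- The classification of the inverted elements. -/
theorem classify {x : G} (hi : Inverts X.t x) (h2 : x * x ≠ 1) :
    x ∈ inv X (Ys X) ∨ x ∈ inv X (tYs X) ∨ x ∈ inv X (Zs X) ∨ x ∈ inv X (tZs X) ∨ x ∈ inv X (Qs X) ∨ x ∈ MW X := by
  have hx1 : x ≠ 1 := fun e => h2 (by rw [e, one_mul])
  have mk : ∀ {Hs : Finset G}, x ∈ cl Hs → x ∈ inv X Hs := fun h => Finset.mem_filter.2 ⟨h, hi⟩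
  by_cases h : 2 ∣ orderOf x
  · obtain ⟨c, k, hk, e⟩ := X.even_form h
    have hk1 : k ≠ 1 := fun ek => h2 (conj_eq_one_iff.1 (show c * (x * x) * c⁻¹ = 1 by
      rw [← conj_mul, e, X.sq_t_form, ek, one_mul, map_one]))
    obtain ⟨c', hc'⟩ := X.odd_class hk hk1
    have hne : c' * k * c'⁻¹ ≠ 1 := fun ek => hk1 (conj_eq_one_iff.1 ek)
    have e' : X.ι c' * c * x * (X.ι c' * c)⁻¹ = X.t * X.ι (c' * k * c'⁻¹) := by
      rw [show X.ι c' * c * x * (X.ι c' * c)⁻¹ = X.ι c' * (c * x * c⁻¹) * (X.ι c')⁻¹ by group, e, map_mul, map_mul,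
        map_inv, ← mul_assoc (X.ι c'), X.tc]
      group
    rcases hc' with hU | hY | hZ
    · refine (no_tU X hU hne (s := X.ι c' * c * X.t * (X.ι c' * c)⁻¹) ?_ (e' ▸ (inverts_conj _).2 hi)).elim
      rw [conj_mul, X.tt, mul_one, mul_inv_cancel]
    · exact Or.inr (Or.inl (mk (mem_cl.2 ⟨_, (mem_tYs X).2 ⟨_, hY, hne, e'⟩⟩)))
    · exact Or.inr (Or.inr (Or.inr (Or.inl (mk (mem_cl.2 ⟨_, (mem_tZs X).2 ⟨_, hZ, hne, e'⟩⟩)))))
  · have hodd : Odd (orderOf x) := Nat.odd_iff.2 (Nat.two_dvd_ne_zero.1 h)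
    by_cases hcop : (orderOf x).Coprime (X.q * (X.q ^ 2 - 1))
    · exact Or.inr (Or.inr (Or.inr (Or.inr (Or.inr ((mem_MW X).2 ⟨hx1, hcop, hi⟩)))))
    · obtain ⟨p, hp, hp1, hp2⟩ := Nat.Prime.not_coprime_iff_dvd.1 hcop
      rcases odd_three X hp hp1 hp2 hodd with h' | h' | h'
      · exact Or.inl (mk h')
      · exact Or.inr (Or.inr (Or.inl (mk h')))
      · exact Or.inr (Or.inr (Or.inr (Or.inr (Or.inl (mk h')))))

theorem kind_fibre {Hs : Finset G} {i : ℕ} (hi0 : i ≠ 0) (hH : ∀ x ∈ Hs, kind X x = i) (hsub : Hs ⊆ inverted X)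
    (hex : ∀ x ∈ inverted X, kind X x = i → x ∈ Hs) : ((inverted X).filter fun x => kind X x = i) = Hs := by
  ext x
  rw [Finset.mem_filter]
  exact ⟨fun h => hex x h.1 h.2, fun h => ⟨hsub h, hH x h⟩⟩

theorem inv_sub (Hs : Finset G) : inv X Hs ⊆ inverted X := fun _ hx =>
  Finset.mem_filter.2 ⟨Finset.mem_univ _, (Finset.mem_filter.1 hx).2⟩

/-- Three times the number of inverted elements of order prime to `q (q² - 1)`. -/
theorem card_MW (hP : Psl3 P) : 3 * (MW X).card = X.q ^ 2 * (X.q ^ 2 - 1) := by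
  have k1 : ∀ x ∈ inv X (Ys X), kind X x = 1 := fun x hx => kind_Ys X (Finset.mem_filter.1 hx).1
  have k2 : ∀ x ∈ inv X (tYs X), kind X x = 2 := fun x hx => kind_tYs X (Finset.mem_filter.1 hx).1
  have k3 : ∀ x ∈ inv X (Zs X), kind X x = 3 := fun x hx => kind_Zs X (Finset.mem_filter.1 hx).1
  have k4 : ∀ x ∈ inv X (tZs X), kind X x = 4 := fun x hx => kind_tZs X (Finset.mem_filter.1 hx).1
  have k5 : ∀ x ∈ inv X (Qs X), kind X x = 5 := fun x hx => kind_Qs X (Finset.mem_filter.1 hx).1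
  have k6 : ∀ x ∈ MW X, kind X x = 6 := fun x hx =>
    kind_coprime X ((mem_MW X).1 hx).1 ((mem_MW X).1 hx).2.1
  have k0 : ∀ x : G, x * x = 1 → kind X x = 0 := fun x h => by rw [kind, if_pos h]
  have tot : ∀ x ∈ inverted X, x * x = 1 ∨ x ∈ inv X (Ys X) ∨ x ∈ inv X (tYs X) ∨ x ∈ inv X (Zs X) ∨
      x ∈ inv X (tZs X) ∨ x ∈ inv X (Qs X) ∨ x ∈ MW X := fun x hx => by
    by_cases h : x * x = 1
    · exact Or.inl h
    · exact Or.inr (classify X (Finset.mem_filter.1 hx).2 h)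
  have ex : ∀ x ∈ inverted X, (kind X x = 0 → x * x = 1) ∧ (kind X x = 1 → x ∈ inv X (Ys X)) ∧
      (kind X x = 2 → x ∈ inv X (tYs X)) ∧ (kind X x = 3 → x ∈ inv X (Zs X)) ∧
      (kind X x = 4 → x ∈ inv X (tZs X)) ∧ (kind X x = 5 → x ∈ inv X (Qs X)) ∧
      (kind X x = 6 → x ∈ MW X) := by
    intro x hx
    rcases tot x hx with h | h | h | h | h | h | h
    · simp [k0 x h, h]
    · simp [k1 x h, h]
    · simp [k2 x h, h]
    · simp [k3 x h, h]
    · simp [k4 x h, h]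
    · simp [k5 x h, h]
    · simp [k6 x h, h]
  have hsum := Finset.card_eq_sum_card_fiberwise (s := inverted X) (f := kind X) (t := Finset.range 7) fun x _ => by
    rw [Finset.mem_coe, Finset.mem_range, kind]
    split_ifs <;> norm_num
  simp only [Finset.sum_range_succ, Finset.range_zero, Finset.sum_empty, zero_add] at hsum
  rw [kind_fibre X (by norm_num) k1 (inv_sub X _) (fun x hx => (ex x hx).2.1),
    kind_fibre X (by norm_num) k2 (inv_sub X _) (fun x hx => (ex x hx).2.2.1),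
    kind_fibre X (by norm_num) k3 (inv_sub X _) (fun x hx => (ex x hx).2.2.2.1),
    kind_fibre X (by norm_num) k4 (inv_sub X _) (fun x hx => (ex x hx).2.2.2.2.1),
    kind_fibre X (by norm_num) k5 (inv_sub X _) (fun x hx => (ex x hx).2.2.2.2.2.1),
    kind_fibre X (by norm_num) k6 (fun x hx => Finset.mem_filter.2 ⟨Finset.mem_univ _, ((mem_MW X).1 hx).2.2⟩)
      (fun x hx => (ex x hx).2.2.2.2.2.2),
    show ((inverted X).filter fun x => kind X x = 0) = (inverted X).filter fun x => x * x = 1 from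
      Finset.filter_congr fun x hx => ⟨(ex x hx).1, k0 x⟩, card_inverted] at hsum
  have h0 := card_square_one X
  have h1 := card_inv X (ti_Ys X)
  have h2 := card_inv X (ti_tYs X)
  have h3 := card_inv X (ti_Zs X)
  have h4 := card_inv X (ti_tZs X)
  have h5 := card_inv X (ti_Qs X)
  rw [card_normT X hP, pairs_Ys] at h1
  rw [card_normT X hP, pairs_tYs] at h2
  rw [card_normZ X hP, pairs_Zs] at h3
  rw [card_normZt X hP, pairs_tZs] at h4
  rw [X.card_N, pairs_Qs] at h5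
  have hq := X.q_ge
  have hqm : (X.q : ℤ) = 2 * X.m + 1 := by exact_mod_cast X.q_m
  have hqr : (X.q : ℤ) + 1 = 4 * X.r := by exact_mod_cast X.q_r
  have q1 : 1 ≤ X.q := by omega
  have q2 : 1 ≤ X.q ^ 2 := Nat.one_le_pow _ _ (by omega)
  have q3 : X.q ≤ X.q ^ 2 := Nat.le_self_pow (by norm_num) _
  have m1 : 1 ≤ X.m := by have := X.m_ge; omega
  have r1 : 1 ≤ X.r := by have := X.r_ge; omega
  zify [q1, q2, q3, m1, r1] at h0 h1 h2 h3 h4 h5 hsum ⊢
  have hm0 : (4 * X.m : ℤ) ≠ 0 := by have := X.m_ge; omega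
  have hr0 : (4 * X.r : ℤ) ≠ 0 := by have := X.r_ge; omega
  have hq0 : (X.q : ℤ) ^ 3 * ((X.q : ℤ) - 1) ≠ 0 := mul_ne_zero (pow_ne_zero 3 (by omega)) (by omega)
  have e1 : 2 * ((inv X (Ys X)).card : ℤ) = X.q * ((X.q : ℤ) ^ 2 - 1) * (X.m - 1) := by
    refine mul_left_cancel₀ hm0 ?_
    rw [show (4 * (X.m : ℤ)) * (2 * ((inv X (Ys X)).card : ℤ)) = 2 * (((inv X (Ys X)).card : ℤ) * (4 * X.m)) by ring,
      h1, hqm]; ring
  have e2 : 2 * ((inv X (tYs X)).card : ℤ) = X.q * ((X.q : ℤ) ^ 2 - 1) * (X.m - 1) := by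
    refine mul_left_cancel₀ hm0 ?_
    rw [show (4 * (X.m : ℤ)) * (2 * ((inv X (tYs X)).card : ℤ)) = 2 * (((inv X (tYs X)).card : ℤ) * (4 * X.m)) by ring,
      h2, hqm]; ring
  have e3 : 6 * ((inv X (Zs X)).card : ℤ) = X.q * ((X.q : ℤ) ^ 2 - 1) * (X.r - 1) := by
    refine mul_left_cancel₀ hr0 ?_
    rw [show (4 * (X.r : ℤ)) * (6 * ((inv X (Zs X)).card : ℤ)) = ((inv X (Zs X)).card : ℤ) * (24 * X.r) by ring, h3]
    ring
  have e4 : 2 * ((inv X (tZs X)).card : ℤ) = X.q * ((X.q : ℤ) ^ 2 - 1) * (X.r - 1) := by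
    refine mul_left_cancel₀ hr0 ?_
    rw [show (4 * (X.r : ℤ)) * (2 * ((inv X (tZs X)).card : ℤ)) = ((inv X (tZs X)).card : ℤ) * (8 * X.r) by ring, h4]
    ring
  have e5 : ((inv X (Qs X)).card : ℤ) = ((X.q : ℤ) + 1) * ((X.q : ℤ) ^ 2 - 1) := by
    refine mul_left_cancel₀ hq0 ?_
    rw [mul_comm _ ((inv X (Qs X)).card : ℤ), h5]
    ring
  have eA : ((X.q : ℤ) * ((X.q : ℤ) ^ 2 - 1)) * (6 * ((X.m : ℤ) - 1) + 4 * ((X.r : ℤ) - 1)) =
      ((X.q : ℤ) * ((X.q : ℤ) ^ 2 - 1)) * (4 * (X.q : ℤ) - 12) := by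
    congr 1; linarith
  nlinarith [e1, e2, e3, e4, e5, eA, h0, hsum]

end Cfsg.Agent.Invol.PiHom.Ree
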