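import Cfsg.Agent.Lib.Invol.CycTI.Ree.Real

/-!
Counting the elements inverted by the involution in the class of a TI set.
-/

set_option autoImplicit false
set_option linter.unusedSectionVars false
set_option linter.style.haveILetI false

namespace Cfsg.Agent.Invol.PiHom.Ree

open Subgroup
open Cfsg.Agent.Invol.CycTI.Ree
open scoped _root_.Classical

universe u v

/-- `s` inverts `x`. -/
def Inverts {G : Type u} [Group G] (s x : G) : Prop := s * x * s⁻¹ = x⁻¹

theorem inverts_conj {G : Type u} [Group G] (c : G) {s x : G} :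
    Inverts (c * s * c⁻¹) (c * x * c⁻¹) ↔ Inverts s x := by
  unfold Inverts
  rw [show c * s * c⁻¹ * (c * x * c⁻¹) * (c * s * c⁻¹)⁻¹ = c * (s * x * s⁻¹) * c⁻¹ by group,
    show (c * x * c⁻¹)⁻¹ = c * x⁻¹ * c⁻¹ by group, mul_left_inj, mul_right_inj]

theorem orderOf_conj {G : Type u} [Group G] (c x : G) : orderOf (c * x * c⁻¹) = orderOf x :=
  orderOf_injective (MulAut.conj c).toMonoidHom (MulAut.conj c).injective x

section TI

variable {G : Type u} [Group G]

/-- A TI set with its stabiliser. -/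
structure TISet (Hs : Finset G) (N : Subgroup G) : Prop where
  stab : ∀ c ∈ N, ∀ h ∈ Hs, c * h * c⁻¹ ∈ Hs
  ti : ∀ c : G, ∀ h ∈ Hs, c * h * c⁻¹ ∈ Hs → c ∈ N

variable [Fintype G]

/-- The conjugates of `Hs`. -/
noncomputable def cl (Hs : Finset G) : Finset G := Finset.univ.filter fun x => ∃ c : G, c * x * c⁻¹ ∈ Hs

theorem mem_cl {Hs : Finset G} {x : G} : x ∈ cl Hs ↔ ∃ c : G, c * x * c⁻¹ ∈ Hs := by simp [cl]

theorem cl_conj {Hs : Finset G} (c : G) {x : G} : c * x * c⁻¹ ∈ cl Hs ↔ x ∈ cl Hs := by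
  rw [mem_cl, mem_cl]
  constructor
  · rintro ⟨d, hd⟩
    exact ⟨d * c, by convert hd using 1; group⟩
  · rintro ⟨d, hd⟩
    exact ⟨d * c⁻¹, by convert hd using 1; group⟩

theorem TISet.fibre {Hs : Finset G} {N : Subgroup G} (hT : TISet Hs N) {x c₀ : G} (h₀ : c₀ * x * c₀⁻¹ ∈ Hs) :
    (Finset.univ.filter fun c : G => c * x * c⁻¹ ∈ Hs).card = Nat.card ↥N := by
  rw [← Fintype.card_subtype, ← Nat.card_eq_fintype_card]
  refine Nat.card_congr
    { toFun := fun c => ⟨c.1 * c₀⁻¹, hT.ti _ _ h₀ (by convert c.2 using 1; group)⟩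
      invFun := fun n => ⟨n.1 * c₀, by convert hT.stab _ n.2 _ h₀ using 1; group⟩
      left_inv := fun c => Subtype.ext (inv_mul_cancel_right _ _)
      right_inv := fun n => Subtype.ext (mul_inv_cancel_right _ _) }

/-- The size of the class. -/
theorem TISet.card_cl {Hs : Finset G} {N : Subgroup G} (hT : TISet Hs N) :
    (cl Hs).card * Nat.card ↥N = Nat.card G * Hs.card := by
  have h := Finset.card_eq_sum_card_fiberwise (s := (Finset.univ : Finset G) ×ˢ Hs)
    (f := fun p : G × G => p.1⁻¹ * p.2 * p.1) (t := cl Hs) fun p hp => by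
      refine mem_cl.2 ⟨p.1, ?_⟩
      convert (Finset.mem_product.1 hp).2 using 1
      group
  rw [Finset.card_product, Finset.card_univ, ← Nat.card_eq_fintype_card] at h
  rw [h, Finset.sum_const_nat]
  intro x hx
  obtain ⟨c₀, h₀⟩ := mem_cl.1 hx
  rw [← hT.fibre h₀]
  refine Finset.card_nbij' (fun p : G × G => p.1) (fun c => (c, c * x * c⁻¹)) ?_ ?_ ?_ ?_
  · intro p hp
    obtain ⟨hp1, hp2⟩ := Finset.mem_filter.1 hp
    refine Finset.mem_filter.2 ⟨Finset.mem_univ _, ?_⟩
    convert (Finset.mem_product.1 hp1).2 using 1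
    rw [← hp2]; group
  · intro c hc
    refine Finset.mem_filter.2 ⟨Finset.mem_product.2 ⟨Finset.mem_univ _, (Finset.mem_filter.1 hc).2⟩, ?_⟩
    show c⁻¹ * (c * x * c⁻¹) * c = x
    group
  · intro p hp
    have hp2 := (Finset.mem_filter.1 hp).2
    refine Prod.ext rfl ?_
    show p.1 * x * p.1⁻¹ = p.2
    rw [← hp2]; group
  · intro c _; rfl

end TI

variable {G : Type u} [Group G] [Fintype G] {P : Type v} [Group P] (X : Sys G P)

/-- The elements of the class of `Hs` inverted by the involution. -/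
noncomputable def inv (Hs : Finset G) : Finset G := (cl Hs).filter fun x => Inverts X.t x

/-- The involutions inverting an element of `Hs`, with it. -/
noncomputable def pairs (Hs : Finset G) : Finset (G × G) :=
  ((Finset.univ : Finset G) ×ˢ Hs).filter fun p => orderOf p.1 = 2 ∧ Inverts p.1 p.2

theorem mem_pairs {Hs : Finset G} {p : G × G} : p ∈ pairs Hs ↔ p.2 ∈ Hs ∧ orderOf p.1 = 2 ∧ Inverts p.1 p.2 := by
  simp [pairs]

/-- The count of inverted elements of the class of a TI set. -/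
theorem card_inv {Hs : Finset G} {N : Subgroup G} (hT : TISet Hs N) :
    (inv X Hs).card * Nat.card ↥N = X.q * (X.q ^ 2 - 1) * (pairs Hs).card := by
  set PS := pairs (cl Hs) with hPS
  have h1 : PS.card = (inv X Hs).card * (X.q ^ 2 * (X.q ^ 2 - X.q + 1)) := by
    rw [Finset.card_eq_sum_card_fiberwise (f := fun p : G × G => p.1) (t := Finset.univ.filter fun s => orderOf s = 2)
      (fun p hp => Finset.mem_filter.2 ⟨Finset.mem_univ _, (mem_pairs.1 hp).2.1⟩)]
    rw [Finset.sum_const_nat (m := (inv X Hs).card), ← X.card_invol, Nat.card_eq_fintype_card,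
      Fintype.card_subtype, mul_comm]
    intro s hs
    have hs2 := (Finset.mem_filter.1 hs).2
    obtain ⟨c, rfl⟩ := X.one_class hs2
    refine (Finset.card_nbij' (fun x => (c * X.t * c⁻¹, c * x * c⁻¹)) (fun p : G × G => c⁻¹ * p.2 * c) ?_ ?_ ?_ ?_).symm
    · intro x hx
      obtain ⟨hx1, hx2⟩ := Finset.mem_filter.1 hx
      exact Finset.mem_filter.2 ⟨mem_pairs.2 ⟨(cl_conj c).2 hx1, hs2, (inverts_conj c).2 hx2⟩, rfl⟩
    · intro p hp
      obtain ⟨hp1, hp2⟩ := Finset.mem_filter.1 hp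
      obtain ⟨hpc, -, hpi⟩ := mem_pairs.1 hp1
      rw [hp2] at hpi
      refine Finset.mem_filter.2 ⟨(cl_conj c).1 ?_, (inverts_conj c).1 ?_⟩
      · convert hpc using 1; group
      · convert hpi using 1; group
    · intro x _
      show c⁻¹ * (c * x * c⁻¹) * c = x
      group
    · intro p hp
      refine Prod.ext (Finset.mem_filter.1 hp).2.symm ?_
      show c * (c⁻¹ * p.2 * c) * c⁻¹ = p.2
      group
  have h2 : PS.card * Nat.card ↥N = Nat.card G * (pairs Hs).card := by
    have h := Finset.card_eq_sum_card_fiberwise (s := (Finset.univ : Finset G) ×ˢ pairs Hs)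
      (f := fun p : G × (G × G) => (p.1⁻¹ * p.2.1 * p.1, p.1⁻¹ * p.2.2 * p.1)) (t := PS) fun p hp => by
        obtain ⟨h1, h2, h3⟩ := mem_pairs.1 (Finset.mem_product.1 hp).2
        refine mem_pairs.2 ⟨mem_cl.2 ⟨p.1, by convert h1 using 1; group⟩, ?_, ?_⟩
        · show orderOf (p.1⁻¹ * p.2.1 * p.1) = 2
          have := orderOf_conj p.1⁻¹ p.2.1
          rw [inv_inv] at this
          rw [this, h2]
        · have := (inverts_conj p.1⁻¹).2 h3
          rwa [inv_inv] at this
    rw [Finset.card_product, Finset.card_univ, ← Nat.card_eq_fintype_card] at h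
    rw [h, Finset.sum_const_nat]
    intro y hy
    obtain ⟨hyc, hy2, hyi⟩ := mem_pairs.1 hy
    obtain ⟨c₀, h₀⟩ := mem_cl.1 hyc
    rw [← hT.fibre h₀]
    refine Finset.card_nbij' (fun p : G × (G × G) => p.1) (fun c => (c, (c * y.1 * c⁻¹, c * y.2 * c⁻¹))) ?_ ?_ ?_ ?_
    · intro p hp
      obtain ⟨hp1, hp2⟩ := Finset.mem_filter.1 hp
      refine Finset.mem_filter.2 ⟨Finset.mem_univ _, ?_⟩
      convert (mem_pairs.1 (Finset.mem_product.1 hp1).2).1 using 1
      rw [← hp2]; group
    · intro c hc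
      refine Finset.mem_filter.2 ⟨Finset.mem_product.2 ⟨Finset.mem_univ _, mem_pairs.2
        ⟨(Finset.mem_filter.1 hc).2, ?_, (inverts_conj c).2 hyi⟩⟩, ?_⟩
      · show orderOf (c * y.1 * c⁻¹) = 2
        rw [orderOf_conj, hy2]
      · show (c⁻¹ * (c * y.1 * c⁻¹) * c, c⁻¹ * (c * y.2 * c⁻¹) * c) = y
        refine Prod.ext ?_ ?_ <;> · show _ * (_ * _ * _) * _ = _; group
    · intro p hp
      have hp2 := (Finset.mem_filter.1 hp).2
      refine Prod.ext rfl (Prod.ext ?_ ?_)
      · show p.1 * y.1 * p.1⁻¹ = p.2.1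
        rw [← hp2]; group
      · show p.1 * y.2 * p.1⁻¹ = p.2.2
        rw [← hp2]; group
    · intro c _; rfl
  have hw : 0 < X.q ^ 2 * (X.q ^ 2 - X.q + 1) := by
    have := X.q_ge
    positivity
  refine Nat.eq_of_mul_eq_mul_left hw ?_
  calc X.q ^ 2 * (X.q ^ 2 - X.q + 1) * ((inv X Hs).card * Nat.card ↥N) = PS.card * Nat.card ↥N := by rw [h1]; ring
    _ = _ := by rw [h2, X.card_G]; ring

end Cfsg.Agent.Invol.PiHom.Ree
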