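import Cfsg.Agent.Lib.Invol.PiHom.Ree.TI

/-!
The classes of the two tori and their products with the involution.
-/

set_option autoImplicit false
set_option linter.unusedSectionVars false
set_option linter.style.haveILetI false

namespace Cfsg.Agent.Invol.PiHom.Ree

open Subgroup
open Cfsg.Agent.Invol.CycTI.Ree
open scoped _root_.Classical

universe u v

/-- The facts used on `L₂(3ᵉ)`. -/
structure Psl3 (P : Type v) [Group P] : Prop where
  flip : ∀ y k : P, y ≠ 1 → Odd (orderOf y) → ¬ 3 ∣ orderOf y → Commute (k * y * k⁻¹) y → ¬ Commute k y →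
    k * y * k⁻¹ = y⁻¹
  exp : ∀ (k : P) (j : ℕ), k ^ 3 ^ j = 1 → k ^ 3 = 1

section Generic

variable {G : Type u} [Group G]

/-- An abelian subgroup inverted by an involution outside. -/
structure Flipped (K : Subgroup G) (v : G) : Prop where
  comm : ∀ a ∈ K, ∀ b ∈ K, a * b = b * a
  vv : v * v = 1
  v_not : v ∉ K
  inv : ∀ x ∈ K, v * x * v⁻¹ = x⁻¹

theorem Flipped.mul_order {K : Subgroup G} {v : G} (hK : Flipped K v) {a : G} (ha : a ∈ K) :
    orderOf (v * a) = 2 := by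
  refine orderOf_eq_prime ?_ fun h => hK.v_not ?_
  · rw [pow_two, show v * a * (v * a) = v * a * v⁻¹ * (v * v) * a by group, hK.vv, mul_one, hK.inv a ha,
      inv_mul_cancel]
  · rw [eq_inv_of_mul_eq_one_left h]; exact inv_mem ha

theorem Flipped.mul_inverts {K : Subgroup G} {v : G} (hK : Flipped K v) {a h : G} (ha : a ∈ K) (hh : h ∈ K) :
    Inverts (v * a) h := by
  unfold Inverts
  rw [show v * a * h * (v * a)⁻¹ = v * (a * h * a⁻¹) * v⁻¹ by group, hK.comm a ha h hh, mul_inv_cancel_right,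
    hK.inv h hh]

theorem Flipped.norm_v {K : Subgroup G} {v : G} (hK : Flipped K v) : v ∈ normalizer (K : Set G) := by
  have hv : v⁻¹ = v := inv_eq_of_mul_eq_one_right hK.vv
  refine mem_normalizer_iff.2 fun x => ⟨fun hx => by rw [hK.inv x hx]; exact inv_mem hx, fun hx => ?_⟩
  have h := hK.inv _ hx
  rw [show v * (v * x * v⁻¹) * v⁻¹ = v * v * x * (v * v)⁻¹ by group, hK.vv, one_mul, inv_one, mul_one] at h
  rw [h]; exact inv_mem hx

/-- A conjugation between elements with centraliser `K` normalises `K`. -/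
theorem norm_of_cent {K : Subgroup G} (hc : ∀ a ∈ K, ∀ b ∈ K, a * b = b * a) {c h : G} (hh : h ∈ K)
    (hch : c * h * c⁻¹ ∈ K) (h1 : ∀ x, x * h = h * x → x ∈ K)
    (h2 : ∀ x, x * (c * h * c⁻¹) = c * h * c⁻¹ * x → x ∈ K) : c ∈ normalizer (K : Set G) := by
  refine mem_normalizer_iff.2 fun x => ⟨fun hx => h2 _ ?_, fun hx => h1 _ ?_⟩
  · rw [conj_mul, conj_mul, hc x hx h hh]
  · have e := hc _ hx _ hch
    rw [conj_mul, conj_mul] at e
    exact mul_left_cancel (mul_right_cancel e)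

theorem Flipped.card_pairs [Fintype G] {K : Subgroup G} {v : G} (hK : Flipped K v) {Hs : Finset G}
    (h1 : ∀ h ∈ Hs, h ∈ K) (h2 : ∀ h ∈ Hs, ∀ x, x * (h * h) = h * h * x → x ∈ K) :
    (pairs Hs).card = Nat.card ↥K * Hs.card := by
  rw [show Nat.card ↥K = (Finset.univ.filter fun x => x ∈ K).card by
    rw [Nat.card_eq_fintype_card, Fintype.card_subtype], ← Finset.card_product]
  refine (Finset.card_nbij' (fun p : G × G => (v * p.1, p.2)) (fun p : G × G => (v * p.1, p.2)) ?_ ?_ ?_ ?_).symm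
  · intro p hp
    obtain ⟨ha, hh⟩ := Finset.mem_product.1 hp
    exact mem_pairs.2 ⟨hh, hK.mul_order (Finset.mem_filter.1 ha).2,
      hK.mul_inverts (Finset.mem_filter.1 ha).2 (h1 _ hh)⟩
  · intro p hp
    obtain ⟨hh, -, hi⟩ := mem_pairs.1 hp
    refine Finset.mem_product.2 ⟨Finset.mem_filter.2 ⟨Finset.mem_univ _, h2 _ hh _ ?_⟩, hh⟩
    have hhh : p.2 * p.2 ∈ K := mul_mem (h1 _ hh) (h1 _ hh)
    have e : v * p.1 * (p.2 * p.2) * (v * p.1)⁻¹ = p.2 * p.2 := by
      calc v * p.1 * (p.2 * p.2) * (v * p.1)⁻¹ = v * ((p.1 * p.2 * p.1⁻¹) * (p.1 * p.2 * p.1⁻¹)) * v⁻¹ := by group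
        _ = v * (p.2 * p.2)⁻¹ * v⁻¹ := by rw [hi, _root_.mul_inv_rev]
        _ = _ := by rw [hK.inv _ (inv_mem hhh), inv_inv]
    exact mul_inv_eq_iff_eq_mul.1 e
  · intro p _
    show (v * (v * p.1), p.2) = p
    rw [← mul_assoc, hK.vv, one_mul]
  · intro p _
    show (v * (v * p.1), p.2) = p
    rw [← mul_assoc, hK.vv, one_mul]

theorem card_nontriv [Fintype G] (K : Subgroup G) :
    (Finset.univ.filter fun x => x ∈ K ∧ x ≠ 1).card = Nat.card ↥K - 1 := by
  rw [show (Finset.univ.filter fun x => x ∈ K ∧ x ≠ 1) = (Finset.univ.filter fun x => x ∈ K).erase 1 by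
    ext x; simp [and_comm], Finset.card_erase_of_mem (by simp), Nat.card_eq_fintype_card, Fintype.card_subtype]

theorem card_translate [Fintype G] (a : G) (s : Finset G) : (Finset.univ.filter fun x => a * x ∈ s).card = s.card :=
  Finset.card_equiv (Equiv.mulLeft a) fun x => by simp

end Generic

variable {G : Type u} [Group G] [Fintype G] {P : Type v} [Group P] (X : Sys G P)

/-- The image of the torus of order `r`. -/
def Zm : Subgroup G := X.S.lp.D.Y.map X.ι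

/-- The Weyl element of the torus of order `r`. -/
abbrev v : G := X.ι X.S.lp.D.w

theorem orderOf_ι (k : P) : orderOf (X.ι k) = orderOf k := orderOf_injective X.ι X.S.B.inj k

theorem ord_Y {y : P} (hy : y ∈ X.S.lp.K.Y) : orderOf y ∣ X.m := orderOf_dvd_of_pow_eq_one (X.S.lp.pow_m hy)

theorem ord_Z {z : P} (hz : z ∈ X.S.lp.D.Y) : orderOf z ∣ X.r := orderOf_dvd_of_pow_eq_one (X.S.lp.D.pow_r hz)

theorem exists_y : ∃ y ∈ X.S.lp.K.Y, y ≠ 1 := by
  by_contra hh
  push Not at hh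
  have h := X.S.lp.card_Y
  rw [(eq_bot_iff_forall _).2 hh, card_bot] at h
  have h' := X.S.lp.m_pos
  omega

theorem flip_form (hP : Psl3 P) {K : Subgroup G} {w : G} {y : P} (hy1 : y ≠ 1) (hyo : Odd (orderOf y))
    (hy3 : ¬ 3 ∣ orderOf y) (hK : ∀ x, x * X.ι y = X.ι y * x → x ∈ K)
    (hw : w * X.ι y * w⁻¹ = (X.ι y)⁻¹) {c : G} (hct : c * X.t = X.t * c)
    (hc : Commute (c * X.ι y * c⁻¹) (X.ι y)) : c ∈ K ∨ w * c ∈ K := by
  obtain ⟨k, hk⟩ := X.S.B.cover c hct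
  have e : c * X.ι y * c⁻¹ = X.ι (k * y * k⁻¹) := by
    rcases hk with rfl | rfl
    · simp [map_mul, map_inv]
    · calc X.t * X.ι k * X.ι y * (X.t * X.ι k)⁻¹ = X.t * (X.ι k * X.ι y * (X.ι k)⁻¹) * X.t⁻¹ := by group
        _ = X.t * X.ι (k * y * k⁻¹) * X.t⁻¹ := by simp [map_mul, map_inv]
        _ = _ := by rw [← X.tc, mul_inv_cancel_right]
  by_cases hky : Commute k y
  · refine Or.inl (hK c ?_)
    rw [← mul_inv_eq_iff_eq_mul, e, hky.eq, mul_inv_cancel_right]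
  · refine Or.inr (hK _ ?_)
    have hc' : Commute (k * y * k⁻¹) y := X.S.B.inj (by rw [map_mul X.S.B.ι (k * y * k⁻¹) y, map_mul X.S.B.ι y (k * y * k⁻¹), ← e]; exact hc.eq)
    rw [hP.flip y k hy1 hyo hy3 hc' hky, map_inv] at e
    rw [← mul_inv_eq_iff_eq_mul, show w * c * X.ι y * (w * c)⁻¹ = w * (c * X.ι y * c⁻¹) * w⁻¹ by group, e,
      ← conj_inv, hw, inv_inv]

/-! ### The split torus -/

theorem flipT : Flipped X.S.T X.S.w where
  comm := fun a ha b hb => X.T_comm ha hb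
  vv := X.S.ww
  v_not := fun h => by
    obtain ⟨y, hy, hy1⟩ := exists_y X
    have e := X.S.w_y hy
    rw [X.T_comm h (X.Ym_le (X.mem_Ym hy)), mul_inv_cancel_right] at e
    refine Sys.sq_ne_one (X.m_odd.of_dvd_nat (ord_Y X hy)) hy1 (X.S.B.inj ?_)
    rw [map_mul, map_one]
    nth_rewrite 1 [show X.S.B.ι y = (X.ι y)⁻¹ from e]
    exact inv_mul_cancel _
  inv := fun x hx => by
    obtain ⟨y, hy, rfl | rfl⟩ := X.S.mem_T hx
    · exact X.S.w_y hy
    · rw [show X.S.w * (X.S.t * X.S.ι y) * X.S.w⁻¹ = X.S.w * X.S.t * X.S.w⁻¹ * (X.S.w * X.S.ι y * X.S.w⁻¹) by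
        group, X.S.w_y hy, ← X.S.tw, mul_inv_cancel_right, _root_.mul_inv_rev, X.S.t_inv, ← map_inv, X.S.tc]

theorem odd_T {x : G} (hx : x ∈ X.S.T) {n : ℕ} (hn : Odd n) (hxn : x ^ n = 1) : x ∈ X.S.Ym := by
  obtain ⟨y, hy, rfl | rfl⟩ := X.S.mem_T hx
  · exact X.mem_Ym hy
  · exfalso
    obtain ⟨d, rfl⟩ := hn
    have hc : Commute X.S.t (X.S.ι y) := (X.S.tc y).symm
    rw [hc.mul_pow, pow_succ X.S.t, pow_mul, pow_two, X.S.tt, one_pow, one_mul, ← map_pow] at hxn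
    exact X.S.B.t_not _ ((eq_inv_of_mul_eq_one_right hxn).trans X.S.t_inv)

theorem cent_sq_y {y : P} (hy : y ∈ X.S.lp.K.Y) (hy1 : y ≠ 1) {x : G}
    (hx : x * X.ι (y * y) = X.ι (y * y) * x) : x ∈ X.S.T :=
  X.cent_ym (mul_mem hy hy) (Sys.sq_ne_one (X.m_odd.of_dvd_nat (ord_Y X hy)) hy1) hx

theorem normT_t {c : G} (hc : c ∈ normalizer (X.S.T : Set G)) : c * X.t = X.t * c := by
  have hm := (mem_normalizer_iff.1 hc X.t).1 X.t_mem
  obtain ⟨y, hy, hy'⟩ := X.S.mem_T hm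
  have h2 : c * X.t * c⁻¹ * (c * X.t * c⁻¹) = 1 := by rw [conj_mul, X.tt, mul_one, mul_inv_cancel]
  rcases X.S.invol_T hy hy' h2 with h | h
  · exact absurd (conj_eq_one_iff.1 h) X.t_ne
  · exact mul_inv_eq_iff_eq_mul.1 h

theorem card_normT (hP : Psl3 P) : Nat.card ↥(normalizer (X.S.T : Set G)) = 4 * X.m := by
  have hw := (flipT X).norm_v
  have hTN : X.S.T ≤ normalizer (X.S.T : Set G) := le_normalizer
  let f : Bool × ↥X.S.T → ↥(normalizer (X.S.T : Set G)) := fun p =>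
    ⟨(if p.1 then X.S.w else 1) * p.2, mul_mem (by split_ifs; exacts [hw, one_mem _]) (hTN p.2.2)⟩
  have hf : Function.Bijective f := by
    constructor
    · rintro ⟨a, x⟩ ⟨b, z⟩ h
      have h' : (if a then X.S.w else 1) * (x : G) = (if b then X.S.w else 1) * (z : G) := congrArg Subtype.val h
      have hab : a = b := by
        rcases a <;> rcases b <;> simp at h'
        · rfl
        · refine absurd ?_ (flipT X).v_not
          rw [← mul_inv_eq_iff_eq_mul.2 h']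
          exact mul_mem x.2 (inv_mem z.2)
        · refine absurd ?_ (flipT X).v_not
          rw [← mul_inv_eq_iff_eq_mul.2 h'.symm]
          exact mul_mem z.2 (inv_mem x.2)
        · rfl
      subst hab
      rw [Subtype.ext (mul_left_cancel h')]
    · rintro ⟨c, hc⟩
      obtain ⟨y, hy, hy1⟩ := exists_y X
      have hcy := (mem_normalizer_iff.1 hc _).1 (X.Ym_le (X.mem_Ym hy))
      rcases flip_form X hP hy1 (X.m_odd.of_dvd_nat (ord_Y X hy))
        (fun h => X.S.lp.not_three_dvd_m (h.trans (ord_Y X hy))) (fun x hx => X.cent_ym hy hy1 hx)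
        (X.S.w_y hy) (normT_t X hc) (X.T_comm hcy (X.Ym_le (X.mem_Ym hy))) with h | h
      · exact ⟨(false, ⟨c, h⟩), Subtype.ext (one_mul c)⟩
      · refine ⟨(true, ⟨X.S.w * c, h⟩), Subtype.ext ?_⟩
        show X.S.w * (X.S.w * c) = c
        rw [← mul_assoc, X.S.ww, one_mul]
  rw [← Nat.card_congr (Equiv.ofBijective f hf), Nat.card_prod, X.card_T, Nat.card_eq_fintype_card (α := Bool),
    Fintype.card_bool]
  have := X.q_m; omega

/-- The class representatives in the split torus. -/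
noncomputable def Ys : Finset G := Finset.univ.filter fun x => x ∈ X.S.Ym ∧ x ≠ 1

/-- Their products with the involution. -/
noncomputable def tYs : Finset G := Finset.univ.filter fun x => X.t * x ∈ Ys X

theorem mem_Ys {x : G} : x ∈ Ys X ↔ ∃ y ∈ X.S.lp.K.Y, y ≠ 1 ∧ x = X.ι y := by
  simp only [Ys, Finset.mem_filter, Finset.mem_univ, true_and]
  constructor
  · rintro ⟨⟨y, hy, rfl⟩, h1⟩
    exact ⟨y, hy, fun e => h1 (by rw [e, map_one]), rfl⟩
  · rintro ⟨y, hy, hy1, rfl⟩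
    exact ⟨X.mem_Ym hy, fun e => hy1 (X.S.B.inj (e.trans (map_one X.ι).symm))⟩

theorem mem_tYs {x : G} : x ∈ tYs X ↔ ∃ y ∈ X.S.lp.K.Y, y ≠ 1 ∧ x = X.t * X.ι y := by
  rw [tYs, Finset.mem_filter, mem_Ys]
  simp only [Finset.mem_univ, true_and]
  constructor
  · rintro ⟨y, hy, hy1, e⟩
    exact ⟨y, hy, hy1, by rw [← e, ← mul_assoc, X.tt, one_mul]⟩
  · rintro ⟨y, hy, hy1, rfl⟩
    exact ⟨y, hy, hy1, by rw [← mul_assoc, X.tt, one_mul]⟩

theorem card_Ys : (Ys X).card = X.m - 1 := by rw [Ys, card_nontriv, X.S.card_Ym]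

theorem card_tYs : (tYs X).card = X.m - 1 := by rw [tYs, card_translate, card_Ys]

theorem ti_Ys : TISet (Ys X) (normalizer (X.S.T : Set G)) where
  stab := fun c hc h hh => by
    obtain ⟨y, hy, hy1, rfl⟩ := (mem_Ys X).1 hh
    refine Finset.mem_filter.2 ⟨Finset.mem_univ _, odd_T X ((mem_normalizer_iff.1 hc _).1
      (X.Ym_le (X.mem_Ym hy))) X.m_odd ?_, fun e => hy1 (X.S.B.inj ?_)⟩
    · rw [conj_pow, ← map_pow, X.S.lp.pow_m hy, map_one, mul_one, mul_inv_cancel]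
    · rw [map_one]; exact conj_eq_one_iff.1 e
  ti := fun c h hh hch => by
    obtain ⟨y, hy, hy1, rfl⟩ := (mem_Ys X).1 hh
    obtain ⟨z, hz, hz1, e⟩ := (mem_Ys X).1 hch
    exact norm_of_cent (fun a ha b hb => X.T_comm ha hb) (X.Ym_le (X.mem_Ym hy))
      (e ▸ X.Ym_le (X.mem_Ym hz)) (fun x hx => X.cent_ym hy hy1 hx)
      (fun x hx => X.cent_ym hz hz1 (by rwa [e] at hx))

theorem ti_tYs : TISet (tYs X) (normalizer (X.S.T : Set G)) where
  stab := fun c hc h hh => by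
    refine Finset.mem_filter.2 ⟨Finset.mem_univ _, ?_⟩
    have ht := normT_t X hc
    rw [show X.t * (c * h * c⁻¹) = X.t * c * h * c⁻¹ by group, ← ht, show c * X.t * h * c⁻¹ = c * (X.t * h) * c⁻¹ by
      group]
    exact (ti_Ys X).stab c hc _ (Finset.mem_filter.1 hh).2
  ti := fun c h hh hch => by
    obtain ⟨y, hy, hy1, rfl⟩ := (mem_tYs X).1 hh
    obtain ⟨z, hz, hz1, e⟩ := (mem_tYs X).1 hch
    have e2 : c * X.ι (y * y) * c⁻¹ = X.ι (z * z) := by
      rw [← X.sq_t_form, ← conj_mul, e, X.sq_t_form]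
    exact norm_of_cent (fun a ha b hb => X.T_comm ha hb) (X.Ym_le (X.mem_Ym (mul_mem hy hy)))
      (e2 ▸ X.Ym_le (X.mem_Ym (mul_mem hz hz))) (fun x hx => cent_sq_y X hy hy1 hx)
      (fun x hx => cent_sq_y X hz hz1 (by rwa [e2] at hx))

theorem pairs_Ys : (pairs (Ys X)).card = (X.q - 1) * (X.m - 1) := by
  rw [(flipT X).card_pairs (Hs := Ys X) ?_ ?_, X.card_T, card_Ys]
  · intro h hh
    exact X.Ym_le (Finset.mem_filter.1 hh).2.1
  · intro h hh x hx
    obtain ⟨y, hy, hy1, rfl⟩ := (mem_Ys X).1 hh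
    exact cent_sq_y X hy hy1 (by rwa [← map_mul] at hx)

theorem pairs_tYs : (pairs (tYs X)).card = (X.q - 1) * (X.m - 1) := by
  rw [(flipT X).card_pairs (Hs := tYs X) ?_ ?_, X.card_T, card_tYs]
  · intro h hh
    obtain ⟨y, hy, -, rfl⟩ := (mem_tYs X).1 hh
    exact mul_mem X.t_mem (X.Ym_le (X.mem_Ym hy))
  · intro h hh x hx
    obtain ⟨y, hy, hy1, rfl⟩ := (mem_tYs X).1 hh
    exact cent_sq_y X hy hy1 (by rwa [X.sq_t_form] at hx)

/-! ### The torus of order `r` -/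

theorem flipZ : Flipped X.Cz (v X) where
  comm := fun a ha b hb => X.Cz_comm ha hb
  vv := by rw [← map_mul, X.S.lp.D.w2, map_one]
  v_not := fun h => by
    obtain ⟨y, hy, hy1⟩ := X.exists_z
    have e : X.ι X.S.lp.D.w * X.ι y * (X.ι X.S.lp.D.w)⁻¹ = X.ι y⁻¹ := by
      rw [← map_inv, ← map_mul, ← map_mul, X.S.lp.D.w_Y y hy]
    rw [X.Cz_comm h (X.Z_mem_Cz hy), mul_inv_cancel_right] at e
    have e' := X.S.B.inj e
    refine Sys.sq_ne_one (X.S.lp.D.odd_Y hy) hy1 ?_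
    nth_rewrite 1 [e']
    exact inv_mul_cancel _
  inv := fun x hx => by
    obtain ⟨z, hz, i, j, rfl⟩ := X.Cz_elim hx
    refine eq_inv_of_mul_eq_one_left ?_
    have hwt : v X * X.t * (v X)⁻¹ = X.t := by rw [X.tc, mul_inv_cancel_right]
    have hu : X.S.lp.D.w * X.S.lp.D.u * X.S.lp.D.w⁻¹ = X.S.lp.D.u := by
      rw [← X.S.lp.D.comm, mul_inv_cancel_right]
    have h1 : v X * (if i then X.t else 1) * (v X)⁻¹ = if i then X.t else 1 := by
      rcases i <;> simp [hwt]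
    have h2 : v X * X.ι ((if j then X.S.lp.D.u else 1) * z) * (v X)⁻¹ =
        X.ι ((if j then X.S.lp.D.u else 1) * z⁻¹) := by
      rw [v, ← map_inv, ← map_mul, ← map_mul]
      congr 1
      calc X.S.lp.D.w * ((if j then X.S.lp.D.u else 1) * z) * X.S.lp.D.w⁻¹
          = X.S.lp.D.w * (if j then X.S.lp.D.u else 1) * X.S.lp.D.w⁻¹ * (X.S.lp.D.w * z * X.S.lp.D.w⁻¹) := by group
        _ = _ := by rw [X.S.lp.D.w_Y z hz]; rcases j <;> simp [hu]
    rw [show v X * ((if i then X.t else 1) * X.ι ((if j then X.S.lp.D.u else 1) * z)) * (v X)⁻¹ =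
      v X * (if i then X.t else 1) * (v X)⁻¹ * (v X * X.ι ((if j then X.S.lp.D.u else 1) * z) * (v X)⁻¹) by group,
      h1, h2]
    rcases i <;> rcases j
    · simp
    · have hc := X.S.lp.D.u_Y z⁻¹ (inv_mem hz)
      simp only [Bool.false_eq_true, if_false, if_true, one_mul]
      rw [← map_mul, hc, show z⁻¹ * X.S.lp.D.u * (X.S.lp.D.u * z) = z⁻¹ * (X.S.lp.D.u * X.S.lp.D.u) * z by group,
        X.S.lp.D.u2, mul_one, inv_mul_cancel, map_one]
    · simp only [Bool.false_eq_true, if_false, if_true, one_mul]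
      rw [← X.tc, show X.ι z⁻¹ * X.t * (X.t * X.ι z) = X.ι z⁻¹ * (X.t * X.t) * X.ι z by group, X.tt, mul_one,
        ← map_mul, inv_mul_cancel, map_one]
    · have hc := X.S.lp.D.u_Y z⁻¹ (inv_mem hz)
      simp only [if_true]
      rw [← X.tc, show X.ι (X.S.lp.D.u * z⁻¹) * X.t * (X.t * X.ι (X.S.lp.D.u * z)) =
        X.ι (X.S.lp.D.u * z⁻¹) * (X.t * X.t) * X.ι (X.S.lp.D.u * z) by group, X.tt, mul_one, ← map_mul, hc,
        show z⁻¹ * X.S.lp.D.u * (X.S.lp.D.u * z) = z⁻¹ * (X.S.lp.D.u * X.S.lp.D.u) * z by group,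
        X.S.lp.D.u2, mul_one, inv_mul_cancel, map_one]

theorem form_pow {z : P} (hz : z ∈ X.S.lp.D.Y) (i j : Bool) {n : ℕ} (hn : Odd n) :
    ((if i then X.t else 1) * X.ι ((if j then X.S.lp.D.u else 1) * z)) ^ n =
      (if i then X.t else 1) * X.ι ((if j then X.S.lp.D.u else 1) * z ^ n) := by
  have h1 : Commute (if i then X.t else 1) (X.ι ((if j then X.S.lp.D.u else 1) * z)) := by
    rcases i
    · exact Commute.one_left _
    · exact (X.tc _).symm
  have h2 : Commute (if j then X.S.lp.D.u else 1) z := by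
    rcases j
    · exact Commute.one_left _
    · exact X.S.lp.D.u_Y z hz
  have h3 : (if i then X.t else 1) ^ n = if i then X.t else 1 := by
    obtain ⟨d, rfl⟩ := hn
    rcases i
    · simp
    · simp only [if_true]
      rw [pow_succ, pow_mul, pow_two, X.tt, one_pow, one_mul]
  have h4 : (if j then X.S.lp.D.u else 1) ^ n = if j then X.S.lp.D.u else 1 := by
    obtain ⟨d, rfl⟩ := hn
    rcases j
    · simp
    · simp only [if_true]
      rw [pow_succ, pow_mul, pow_two, X.S.lp.D.u2, one_pow, one_mul]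
  rw [h1.mul_pow, ← map_pow, h2.mul_pow, h3, h4]

theorem u_not_Y : X.S.lp.D.u ∉ X.S.lp.D.Y := fun h => by
  have hd := X.S.lp.D.odd_Y h
  rw [X.S.lp.D.orderOf_u] at hd
  exact absurd hd (by decide)

theorem odd_Cz {x : G} (hx : x ∈ X.Cz) {n : ℕ} (hn : Odd n) (hxn : x ^ n = 1) : x ∈ Zm X := by
  obtain ⟨z, hz, i, j, rfl⟩ := X.Cz_elim hx
  rw [form_pow X hz i j hn] at hxn
  rcases i
  · rcases j
    · exact ⟨z, hz, by simp⟩
    · exfalso
      have e : X.S.lp.D.u * z ^ n = 1 := X.S.B.inj (by simpa using hxn)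
      exact u_not_Y X (by rw [eq_inv_of_mul_eq_one_left e]; exact inv_mem (pow_mem hz n))
  · exfalso
    exact X.S.B.t_not _ ((eq_inv_of_mul_eq_one_right hxn).trans X.S.t_inv)

theorem Cz_invol {x : G} (hx : x ∈ X.Cz) (h2 : x * x = 1) : x = 1 ∨ x = X.t ∨ x = X.u ∨ x = X.t * X.u := by
  obtain ⟨z, hz, i, j, rfl⟩ := X.Cz_elim hx
  have e := form_pow X hz i j X.r_odd
  obtain ⟨d, hd⟩ := X.r_odd
  rw [X.S.lp.D.pow_r hz, mul_one] at e
  conv at e => lhs; rw [hd, pow_succ, pow_mul, pow_two, h2, one_pow, one_mul]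
  rw [e]
  rcases i <;> rcases j <;> simp [Sys.u]

theorem g_t : X.S.loc.g * X.t * X.S.loc.g⁻¹ = X.u := by
  have h := X.S.loc.gt
  rwa [X.S.hBD] at h

theorem g_u : X.S.loc.g * X.u * X.S.loc.g⁻¹ = X.t * X.u := by
  have h := X.S.loc.gu
  rwa [X.S.hBD] at h

theorem g_norm : X.S.loc.g ∈ normalizer (X.Cz : Set G) := by
  set g := X.S.loc.g
  have key : ∀ x ∈ X.Cz, g * x * g⁻¹ ∈ X.Cz := by
    intro x hx
    obtain ⟨z, hz, i, j, rfl⟩ := X.Cz_elim hx
    obtain ⟨z', hz', e⟩ := X.S.loc.gY z (by rw [X.S.hBD]; exact hz)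
    rw [X.S.hBD] at hz'
    rw [map_mul, show g * ((if i then X.t else 1) * (X.ι (if j then X.S.lp.D.u else 1) * X.ι z)) * g⁻¹ =
      g * (if i then X.t else 1) * g⁻¹ * ((g * X.ι (if j then X.S.lp.D.u else 1) * g⁻¹) * (g * X.ι z * g⁻¹)) by group]
    refine mul_mem ?_ (mul_mem ?_ (e ▸ X.Z_mem_Cz hz'))
    · rcases i
      · simp
      · simp only [if_true, g, g_t]; exact X.u_mem_Cz
    · rcases j
      · simp
      · simp only [if_true]
        show g * X.u * g⁻¹ ∈ _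
        rw [g_u]; exact mul_mem X.t_mem_Cz X.u_mem_Cz
  refine mem_normalizer_iff.2 fun x => ⟨key x, fun h => ?_⟩
  have h' := key _ (key _ h)
  have h3 : g * g * g = 1 := by rw [← pow_two, ← pow_succ]; exact X.S.loc.g3
  rwa [show g * (g * (g * x * g⁻¹) * g⁻¹) * g⁻¹ = g * g * g * x * (g * g * g)⁻¹ by group, h3, one_mul, inv_one,
    mul_one] at h'

/-- The normalisers of the second torus fixing the involution. -/
theorem normZ_t (hP : Psl3 P) {c : G} (hc : c ∈ normalizer (X.Cz : Set G)) (hct : c * X.t = X.t * c) :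
    c ∈ X.Cz ∨ v X * c ∈ X.Cz := by
  obtain ⟨y, hy, hy1⟩ := X.exists_z
  have hcy := (mem_normalizer_iff.1 hc _).1 (X.Z_mem_Cz hy)
  refine flip_form X hP hy1 (X.S.lp.D.odd_Y hy) (fun h => X.S.lp.not_three_dvd_r (h.trans (ord_Z X hy)))
    (fun x hx => X.cent_z_mem hy hy1 hx) ?_ hct (X.Cz_comm hcy (X.Z_mem_Cz hy))
  exact (flipZ X).inv _ (X.Z_mem_Cz hy)

theorem card_normZt (hP : Psl3 P) :
    Nat.card ↥(normalizer (X.Cz : Set G) ⊓ centralizer ({X.t} : Set G) : Subgroup G) = 8 * X.r := by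
  have hv := (flipZ X).norm_v
  have hle : X.Cz ≤ normalizer (X.Cz : Set G) ⊓ centralizer ({X.t} : Set G) := fun x hx =>
    ⟨le_normalizer hx, mem_centralizer_singleton_iff.2 (X.Cz_comm hx X.t_mem_Cz)⟩
  let f : Bool × ↥X.Cz → ↥(normalizer (X.Cz : Set G) ⊓ centralizer ({X.t} : Set G) : Subgroup G) := fun p =>
    ⟨(if p.1 then v X else 1) * p.2, mul_mem (by
      split_ifs
      exacts [⟨hv, mem_centralizer_singleton_iff.2 (X.tc _)⟩, one_mem _]) (hle p.2.2)⟩
  have hf : Function.Bijective f := by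
    constructor
    · rintro ⟨a, x⟩ ⟨b, z⟩ h
      have h' : (if a then v X else 1) * (x : G) = (if b then v X else 1) * (z : G) := congrArg Subtype.val h
      have hab : a = b := by
        rcases a <;> rcases b <;> simp at h'
        · rfl
        · refine absurd ?_ (flipZ X).v_not
          rw [← mul_inv_eq_iff_eq_mul.2 h']
          exact mul_mem x.2 (inv_mem z.2)
        · refine absurd ?_ (flipZ X).v_not
          rw [← mul_inv_eq_iff_eq_mul.2 h'.symm]
          exact mul_mem z.2 (inv_mem x.2)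
        · rfl
      subst hab
      rw [Subtype.ext (mul_left_cancel h')]
    · rintro ⟨c, hc1, hc2⟩
      rcases normZ_t X hP hc1 (mem_centralizer_singleton_iff.1 hc2) with h | h
      · exact ⟨(false, ⟨c, h⟩), Subtype.ext (one_mul c)⟩
      · refine ⟨(true, ⟨v X * c, h⟩), Subtype.ext ?_⟩
        show v X * (v X * c) = c
        rw [← mul_assoc, (flipZ X).vv, one_mul]
  rw [← Nat.card_congr (Equiv.ofBijective f hf), Nat.card_prod, X.card_Cz, Nat.card_eq_fintype_card (α := Bool),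
    Fintype.card_bool]
  ring

theorem card_normZ (hP : Psl3 P) : Nat.card ↥(normalizer (X.Cz : Set G)) = 24 * X.r := by
  set g := X.S.loc.g
  set N := normalizer (X.Cz : Set G)
  set S := normalizer (X.Cz : Set G) ⊓ centralizer ({X.t} : Set G)
  have hg : g ∈ N := g_norm X
  let f : Fin 3 × ↥S → ↥N := fun p => ⟨g ^ (p.1 : ℕ) * (p.2 : G), mul_mem (pow_mem hg _) p.2.2.1⟩
  have himg : ∀ (i : ℕ) (s : ↥S), g ^ i * (s : G) * X.t * (g ^ i * (s : G))⁻¹ = g ^ i * X.t * (g ^ i)⁻¹ := by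
    intro i s
    rw [show g ^ i * (s : G) * X.t * (g ^ i * (s : G))⁻¹ = g ^ i * ((s : G) * X.t * (s : G)⁻¹) * (g ^ i)⁻¹ by group,
      mem_centralizer_singleton_iff.1 s.2.2, mul_inv_cancel_right]
  have e1 : g ^ 1 * X.t * (g ^ 1)⁻¹ = X.u := by rw [pow_one]; exact g_t X
  have e2 : g ^ 2 * X.t * (g ^ 2)⁻¹ = X.t * X.u := by
    rw [pow_two, show g * g * X.t * (g * g)⁻¹ = g * (g * X.t * g⁻¹) * g⁻¹ by group, g_t X, g_u X]
  have d1 : X.u ≠ X.t := X.S.B.t_not _
  have d2 : X.t * X.u ≠ X.t := fun h => X.u_ne (mul_eq_left.1 h)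
  have d3 : X.t * X.u ≠ X.u := fun h => X.t_ne (mul_eq_right.1 h)
  have hf : Function.Bijective f := by
    constructor
    · rintro ⟨i, s⟩ ⟨j, s'⟩ h
      have h' : g ^ (i : ℕ) * (s : G) = g ^ (j : ℕ) * (s' : G) := congrArg Subtype.val h
      have hij : g ^ (i : ℕ) * X.t * (g ^ (i : ℕ))⁻¹ = g ^ (j : ℕ) * X.t * (g ^ (j : ℕ))⁻¹ := by
        rw [← himg i s, ← himg j s', h']
      have : i = j := by
        fin_cases i <;> fin_cases j <;>
          simp only [pow_zero, one_mul, inv_one, mul_one, e1, e2,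
            Fin.isValue, Fin.zero_eta, Fin.mk_one, Fin.reduceFinMk] at hij ⊢ <;>
          first
            | rfl
            | exact absurd hij d1 | exact absurd hij.symm d1
            | exact absurd hij d2 | exact absurd hij.symm d2
            | exact absurd hij d3 | exact absurd hij.symm d3
      subst this
      rw [Subtype.ext (mul_left_cancel h')]
    · rintro ⟨c, hc⟩
      have h2 : c * X.t * c⁻¹ * (c * X.t * c⁻¹) = 1 := by rw [conj_mul, X.tt, mul_one, mul_inv_cancel]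
      have hi : ∃ i : Fin 3, c * X.t * c⁻¹ = g ^ (i : ℕ) * X.t * (g ^ (i : ℕ))⁻¹ := by
        rcases Cz_invol X ((mem_normalizer_iff.1 hc _).1 X.t_mem_Cz) h2 with h | h | h | h
        · exact absurd (conj_eq_one_iff.1 h) X.t_ne
        · exact ⟨0, by simp [h]⟩
        · exact ⟨1, h.trans e1.symm⟩
        · exact ⟨2, h.trans e2.symm⟩
      obtain ⟨i, hi⟩ := hi
      have hn : (g ^ (i : ℕ))⁻¹ * c ∈ N := mul_mem (inv_mem (pow_mem hg _)) hc
      refine ⟨(i, ⟨(g ^ (i : ℕ))⁻¹ * c, hn,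
        mem_centralizer_singleton_iff.2 (mul_inv_eq_iff_eq_mul.1 ?_)⟩), Subtype.ext (mul_inv_cancel_left _ _)⟩
      rw [show (g ^ (i : ℕ))⁻¹ * c * X.t * ((g ^ (i : ℕ))⁻¹ * c)⁻¹ =
        (g ^ (i : ℕ))⁻¹ * (c * X.t * c⁻¹) * g ^ (i : ℕ) by group, hi]
      group
  rw [← Nat.card_congr (Equiv.ofBijective f hf), Nat.card_prod, card_normZt X hP, Nat.card_fin]
  ring

/-- The class representatives in the second torus. -/
noncomputable def Zs : Finset G := Finset.univ.filter fun x => x ∈ Zm X ∧ x ≠ 1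

/-- Their products with the involution. -/
noncomputable def tZs : Finset G := Finset.univ.filter fun x => X.t * x ∈ Zs X

theorem mem_Zs {x : G} : x ∈ Zs X ↔ ∃ z ∈ X.S.lp.D.Y, z ≠ 1 ∧ x = X.ι z := by
  simp only [Zs, Finset.mem_filter, Finset.mem_univ, true_and]
  constructor
  · rintro ⟨⟨z, hz, rfl⟩, h1⟩
    exact ⟨z, hz, fun e => h1 (by rw [e, map_one]), rfl⟩
  · rintro ⟨z, hz, hz1, rfl⟩
    exact ⟨⟨z, hz, rfl⟩, fun e => hz1 (X.S.B.inj (e.trans (map_one X.ι).symm))⟩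

theorem mem_tZs {x : G} : x ∈ tZs X ↔ ∃ z ∈ X.S.lp.D.Y, z ≠ 1 ∧ x = X.t * X.ι z := by
  rw [tZs, Finset.mem_filter, mem_Zs]
  simp only [Finset.mem_univ, true_and]
  constructor
  · rintro ⟨y, hy, hy1, e⟩
    exact ⟨y, hy, hy1, by rw [← e, ← mul_assoc, X.tt, one_mul]⟩
  · rintro ⟨y, hy, hy1, rfl⟩
    exact ⟨y, hy, hy1, by rw [← mul_assoc, X.tt, one_mul]⟩

theorem card_Zs : (Zs X).card = X.r - 1 := by rw [Zs, card_nontriv, Zm, X.card_Zm]

theorem card_tZs : (tZs X).card = X.r - 1 := by rw [tZs, card_translate, card_Zs]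

theorem cent_sq_z {y : P} (hy : y ∈ X.S.lp.D.Y) (hy1 : y ≠ 1) {x : G}
    (hx : x * X.ι (y * y) = X.ι (y * y) * x) : x ∈ X.Cz :=
  X.cent_z_mem (mul_mem hy hy) (Sys.sq_ne_one (X.S.lp.D.odd_Y hy) hy1) hx

theorem ti_Zs : TISet (Zs X) (normalizer (X.Cz : Set G)) where
  stab := fun c hc h hh => by
    obtain ⟨y, hy, hy1, rfl⟩ := (mem_Zs X).1 hh
    refine Finset.mem_filter.2 ⟨Finset.mem_univ _, odd_Cz X ((mem_normalizer_iff.1 hc _).1
      (X.Z_mem_Cz hy)) X.r_odd ?_, fun e => hy1 (X.S.B.inj ?_)⟩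
    · rw [conj_pow, ← map_pow, X.S.lp.D.pow_r hy, map_one, mul_one, mul_inv_cancel]
    · rw [map_one]; exact conj_eq_one_iff.1 e
  ti := fun c h hh hch => by
    obtain ⟨y, hy, hy1, rfl⟩ := (mem_Zs X).1 hh
    obtain ⟨z, hz, hz1, e⟩ := (mem_Zs X).1 hch
    exact norm_of_cent (fun a ha b hb => X.Cz_comm ha hb) (X.Z_mem_Cz hy)
      (e ▸ X.Z_mem_Cz hz) (fun x hx => X.cent_z_mem hy hy1 hx)
      (fun x hx => X.cent_z_mem hz hz1 (by rwa [e] at hx))

theorem ti_tZs : TISet (tZs X) (normalizer (X.Cz : Set G) ⊓ centralizer ({X.t} : Set G)) where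
  stab := fun c hc h hh => by
    refine Finset.mem_filter.2 ⟨Finset.mem_univ _, ?_⟩
    have ht := mem_centralizer_singleton_iff.1 hc.2
    rw [show X.t * (c * h * c⁻¹) = X.t * c * h * c⁻¹ by group, ← ht, show c * X.t * h * c⁻¹ = c * (X.t * h) * c⁻¹ by
      group]
    exact (ti_Zs X).stab c hc.1 _ (Finset.mem_filter.1 hh).2
  ti := fun c h hh hch => by
    obtain ⟨y, hy, hy1, rfl⟩ := (mem_tZs X).1 hh
    obtain ⟨z, hz, hz1, e⟩ := (mem_tZs X).1 hch
    have hpow : ∀ {x : P}, x ∈ X.S.lp.D.Y → (X.t * X.ι x) ^ X.r = X.t := fun {x} hx => by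
      have h := form_pow X hx true false X.r_odd
      simpa [X.S.lp.D.pow_r hx] using h
    have et : c * X.t * c⁻¹ = X.t := by
      have h := conj_pow (a := c) (b := X.t * X.ι y) (i := X.r)
      rw [e, hpow hz, hpow hy] at h
      exact h.symm
    have e2 : c * X.ι (y * y) * c⁻¹ = X.ι (z * z) := by
      rw [← X.sq_t_form, ← conj_mul, e, X.sq_t_form]
    exact ⟨norm_of_cent (fun a ha b hb => X.Cz_comm ha hb) (X.Z_mem_Cz (mul_mem hy hy))
      (e2 ▸ X.Z_mem_Cz (mul_mem hz hz)) (fun x hx => cent_sq_z X hy hy1 hx)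
      (fun x hx => cent_sq_z X hz hz1 (by rwa [e2] at hx)),
      mem_centralizer_singleton_iff.2 (mul_inv_eq_iff_eq_mul.1 et)⟩

theorem pairs_Zs : (pairs (Zs X)).card = 4 * X.r * (X.r - 1) := by
  rw [(flipZ X).card_pairs (Hs := Zs X) ?_ ?_, X.card_Cz, card_Zs]
  · intro h hh
    obtain ⟨y, hy, -, rfl⟩ := (mem_Zs X).1 hh
    exact X.Z_mem_Cz hy
  · intro h hh x hx
    obtain ⟨y, hy, hy1, rfl⟩ := (mem_Zs X).1 hh
    exact cent_sq_z X hy hy1 (by rwa [← map_mul] at hx)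

theorem pairs_tZs : (pairs (tZs X)).card = 4 * X.r * (X.r - 1) := by
  rw [(flipZ X).card_pairs (Hs := tZs X) ?_ ?_, X.card_Cz, card_tZs]
  · intro h hh
    obtain ⟨y, hy, -, rfl⟩ := (mem_tZs X).1 hh
    exact mul_mem X.t_mem_Cz (X.Z_mem_Cz hy)
  · intro h hh x hx
    obtain ⟨y, hy, hy1, rfl⟩ := (mem_tZs X).1 hh
    exact cent_sq_z X hy hy1 (by rwa [X.sq_t_form] at hx)

end Cfsg.Agent.Invol.PiHom.Ree
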