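import Cfsg.Agent.Lib.Invol.PiHom.Ree.Count

/-!
The abelian self-centralising subgroups of order prime to `q (q² - 1)` inverted by the involution.
-/

set_option autoImplicit false
set_option linter.unusedSectionVars false
set_option linter.style.haveILetI false

namespace Cfsg.Agent.Invol.PiHom.Ree

open Subgroup
open Cfsg.Agent.Invol.CycTI.Ree
open scoped _root_.Classical

universe u v

/-- A semiregular action divides. -/
theorem dvd_free {K : Type*} {α : Type*} [Group K] [Fintype K] [MulAction K α] (S : Finset α)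
    (hS : ∀ k : K, ∀ x ∈ S, k • x ∈ S) (free : ∀ k : K, ∀ x ∈ S, k • x = x → k = 1) : Fintype.card K ∣ S.card := by
  set O : α → Finset α := fun x => Finset.univ.image fun k : K => k • x
  rw [Finset.card_eq_sum_card_fiberwise (f := O) (t := S.image O) fun x hx => Finset.mem_image_of_mem _ hx]
  refine Finset.dvd_sum fun o ho => dvd_of_eq ?_
  obtain ⟨x, hx, rfl⟩ := Finset.mem_image.1 ho
  refine (Finset.card_bij (fun k _ => k • x) (fun k _ => Finset.mem_filter.2 ⟨hS k x hx, ?_⟩) ?_ ?_)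
  · ext z
    simp only [O, Finset.mem_image, Finset.mem_univ, true_and]
    constructor
    · rintro ⟨l, rfl⟩; exact ⟨l * k, (smul_smul _ _ _).symm⟩
    · rintro ⟨l, rfl⟩; exact ⟨l * k⁻¹, by rw [smul_smul, inv_mul_cancel_right]⟩
  · intro k _ l _ h
    have h' := free (k⁻¹ * l) x hx (by rw [mul_smul, ← h, inv_smul_smul])
    exact inv_mul_eq_one.1 h'
  · intro z hz
    obtain ⟨hz1, hz2⟩ := Finset.mem_filter.1 hz
    have hzo : z ∈ O x := hz2 ▸ Finset.mem_image.2 ⟨1, Finset.mem_univ _, one_smul _ _⟩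
    obtain ⟨k, -, rfl⟩ := Finset.mem_image.1 hzo
    exact ⟨k, Finset.mem_univ _, rfl⟩

variable {G : Type u} [Group G] [Fintype G] {P : Type v} [Group P] (X : Sys G P)

/-- Every prime divisor of the cofactor is at least seven. -/
theorem prime_w {p : ℕ} (hp : p.Prime) (hW : p ∣ X.q ^ 2 - X.q + 1) : 7 ≤ p := by
  have hc := X.coprime_w.coprime_dvd_left hW
  have hp5 : p ≠ 5 := by
    rintro rfl
    have h0 := (ZMod.natCast_eq_zero_iff _ 5).2 hW
    rw [Nat.cast_add, Nat.cast_sub (Nat.le_self_pow two_ne_zero X.q)] at h0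
    push_cast at h0
    revert h0
    generalize ((X.q : ℕ) : ZMod 5) = z
    revert z
    decide
  have hp2 : p ≠ 2 := by
    rintro rfl
    exact absurd (hc.coprime_dvd_right (show 2 ∣ X.q * (X.q ^ 2 - 1) by
      rw [X.sq_sub]; exact ⟨4 * X.r * X.m * X.q, by ring⟩)) (by decide)
  have hp3 : p ≠ 3 := by
    rintro rfl
    exact absurd (hc.coprime_dvd_right (X.three_q.mul_right _)) (by decide)
  by_contra hlt
  have h1 := hp.two_le
  interval_cases p <;> first | exact hp2 rfl | exact hp3 rfl | exact hp5 rfl | exact absurd hp (by norm_num)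

theorem seven_le {c : ℕ} (hc : c ∣ X.q ^ 2 - X.q + 1) (h1 : c ≠ 1) : 7 ≤ c :=
  (prime_w X (Nat.minFac_prime h1) ((Nat.minFac_dvd c).trans hc)).trans
    (Nat.minFac_le (Nat.pos_of_ne_zero fun h0 => by rw [h0, zero_dvd_iff] at hc; omega))

theorem inverted_cent {a : G} (ha : a ≠ 1) (hac : (orderOf a).Coprime (X.q * (X.q ^ 2 - 1))) (hai : Inverts X.t a) :
    ∀ x ∈ centralizer ({a} : Set G), X.t * x * X.t⁻¹ = x⁻¹ := by
  refine AbelTwo.ReeTrans.inverts X.tt (fun x hx => mem_centralizer_singleton_iff.2 ?_) fun x hx hxt => ?_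
  · have h : Commute (X.t * x * X.t⁻¹) (X.t * a⁻¹ * X.t⁻¹) :=
      (Commute.conj_iff X.t).2 (Commute.inv_right (mem_centralizer_singleton_iff.1 hx))
    unfold Inverts at hai
    rwa [← conj_inv, hai, inv_inv] at h
  · have h1 := Subgroup.orderOf_dvd_natCard _ hx
    have h2 : orderOf x ∣ X.q * (X.q ^ 2 - 1) := by
      rw [← X.card_C]
      exact Subgroup.orderOf_dvd_natCard _ (mem_centralizer_singleton_iff.2 hxt)
    exact orderOf_eq_one_iff.1 (Nat.eq_one_of_dvd_coprimes (X.cent_coprime ha hac) h1 h2)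

theorem comm_cent {a : G} (ha : a ≠ 1) (hac : (orderOf a).Coprime (X.q * (X.q ^ 2 - 1))) (hai : Inverts X.t a) :
    ∀ x ∈ centralizer ({a} : Set G), ∀ y ∈ centralizer ({a} : Set G), x * y = y * x := by
  intro x hx y hy
  have h := inverted_cent X ha hac hai _ (mul_mem hx hy)
  rw [← conj_mul, inverted_cent X ha hac hai x hx, inverted_cent X ha hac hai y hy, ← _root_.mul_inv_rev,
    inv_inj] at h
  exact h.symm

/-- An abelian self-centralising subgroup of order prime to `q (q² - 1)` inverted by the involution. -/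
structure WTor (A : Subgroup G) : Prop where
  ne : A ≠ ⊥
  comm : ∀ a ∈ A, ∀ b ∈ A, a * b = b * a
  cc : ∀ a ∈ A, a ≠ 1 → centralizer ({a} : Set G) = A
  inv : ∀ a ∈ A, X.t * a * X.t⁻¹ = a⁻¹
  cop : (Nat.card ↥A).Coprime (X.q * (X.q ^ 2 - 1))
  dvd : Nat.card ↥A ∣ X.q ^ 2 - X.q + 1

theorem wtor_of {g : G} (hg : g ∈ MW X) : WTor X (centralizer ({g} : Set G)) := by
  obtain ⟨hg1, hcop, hinv⟩ := (mem_MW X).1 hg
  refine ⟨fun h => hg1 ?_, comm_cent X hg1 hcop hinv, fun a ha ha1 => ?_, inverted_cent X hg1 hcop hinv,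
    X.cent_coprime hg1 hcop, X.cent_dvd_w hg1 hcop⟩
  · rw [← mem_bot (G := G), ← h]
    exact mem_centralizer_singleton_iff.2 rfl
  · have hac := (X.cent_coprime hg1 hcop).coprime_dvd_left (Subgroup.orderOf_dvd_natCard _ ha)
    have hgA : g ∈ centralizer ({a} : Set G) :=
      mem_centralizer_singleton_iff.2 (mem_centralizer_singleton_iff.1 ha).symm
    refine le_antisymm (fun x hx => mem_centralizer_singleton_iff.2
      (comm_cent X ha1 hac (inverted_cent X hg1 hcop hinv a ha) x hx g hgA)) fun x hx =>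
      mem_centralizer_singleton_iff.2 (comm_cent X hg1 hcop hinv x hx a ha)

/-- The class representatives of a torus. -/
noncomputable def As (A : Subgroup G) : Finset G := Finset.univ.filter fun x => x ∈ A ∧ x ≠ 1

/-- The part of the normaliser centralising the involution. -/
def E (A : Subgroup G) : Subgroup G := normalizer (A : Set G) ⊓ centralizer ({X.t} : Set G)

namespace WTor

variable {X} {A : Subgroup G} (h : WTor X A)
include h

theorem odd_card : Odd (Nat.card ↥A) := by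
  have h2 : 2 ∣ X.q * (X.q ^ 2 - 1) := by
    rw [X.sq_sub]; exact ⟨4 * X.r * X.m * X.q, by ring⟩
  exact Nat.coprime_two_right.1 (h.cop.coprime_dvd_right h2)

theorem one_lt : 1 < Nat.card ↥A := by
  rcases Nat.lt_or_ge 1 (Nat.card ↥A) with h' | h'
  · exact h'
  · exact absurd (eq_bot_of_card_eq A (le_antisymm h' Nat.card_pos)) h.ne

theorem exists_elt : ∃ a ∈ A, a ≠ 1 := by
  by_contra hh
  push Not at hh
  exact h.ne ((eq_bot_iff_forall _).2 hh)

theorem inter_C {x : G} (hx : x ∈ A) (hxt : x * X.t = X.t * x) : x = 1 := by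
  by_contra hx1
  have e := h.inv x hx
  rw [← hxt, mul_inv_cancel_right] at e
  have h2 : orderOf x = 2 := orderOf_eq_prime (by rw [pow_two]; exact mul_eq_one_iff_eq_inv.2 e) hx1
  have := h.odd_card.of_dvd_nat (Subgroup.orderOf_dvd_natCard _ hx)
  rw [h2] at this
  exact absurd this (by decide)

theorem sq_ne {a : G} (ha : a ∈ A) (ha1 : a ≠ 1) : a * a ≠ 1 :=
  sq_ne_of_odd ha1 h.odd_card (Subgroup.orderOf_dvd_natCard _ ha)

theorem flipped : Flipped A X.t where
  comm := h.comm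
  vv := X.tt
  v_not := fun ht => X.t_ne (h.inter_C ht rfl)
  inv := h.inv

theorem mem_of_comm {a x : G} (ha : a ∈ A) (ha1 : a ≠ 1) (hx : x * a = a * x) : x ∈ A := by
  rw [← h.cc a ha ha1]; exact mem_centralizer_singleton_iff.2 hx

theorem ti : TISet (As A) (normalizer (A : Set G)) where
  stab := fun c hc x hx => by
    obtain ⟨hxA, hx1⟩ := (Finset.mem_filter.1 hx).2
    exact Finset.mem_filter.2 ⟨Finset.mem_univ _, (mem_normalizer_iff.1 hc x).1 hxA,
      fun e => hx1 (conj_eq_one_iff.1 e)⟩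
  ti := fun c x hx hcx => by
    obtain ⟨hxA, hx1⟩ := (Finset.mem_filter.1 hx).2
    obtain ⟨hyA, hy1⟩ := (Finset.mem_filter.1 hcx).2
    exact norm_of_cent h.comm hxA hyA (fun z hz => h.mem_of_comm hxA hx1 hz) (fun z hz => h.mem_of_comm hyA hy1 hz)

theorem pairs_eq : (pairs (As A)).card = Nat.card ↥A * (Nat.card ↥A - 1) := by
  rw [h.flipped.card_pairs (Hs := As A) ?_ ?_, As, card_nontriv]
  · exact fun x hx => (Finset.mem_filter.1 hx).2.1
  · intro x hx z hz
    obtain ⟨hxA, hx1⟩ := (Finset.mem_filter.1 hx).2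
    exact h.mem_of_comm (mul_mem hxA hxA) (h.sq_ne hxA hx1) hz

theorem E_inf {x : G} (hx : x ∈ A) (hxE : x ∈ E X A) : x = 1 :=
  h.inter_C hx (mem_centralizer_singleton_iff.1 hxE.2)

theorem card_norm : Nat.card ↥(normalizer (A : Set G)) = Nat.card ↥A * Nat.card ↥(E X A) := by
  have hle : A ≤ normalizer (A : Set G) := le_normalizer
  let f : ↥A × ↥(E X A) → ↥(normalizer (A : Set G)) := fun p => ⟨p.1 * p.2, mul_mem (hle p.1.2) p.2.2.1⟩
  have hf : Function.Bijective f := by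
    constructor
    · rintro ⟨a, x⟩ ⟨b, y⟩ he
      have he' : (a : G) * x = b * y := congrArg Subtype.val he
      have e : (b : G)⁻¹ * a = y * (x : G)⁻¹ := by
        rw [eq_mul_inv_iff_mul_eq, mul_assoc, he', inv_mul_cancel_left]
      have h1 := h.E_inf (mul_mem (inv_mem b.2) a.2) (e ▸ mul_mem y.2 (inv_mem x.2))
      rw [inv_mul_eq_one] at h1
      rw [h1] at he'
      rw [Subtype.ext h1, Subtype.ext (mul_left_cancel he')]
    · rintro ⟨n, hn⟩
      obtain ⟨a, ha, ha1⟩ := h.exists_elt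
      set s := n * X.t * n⁻¹
      have hs : s * a * s⁻¹ = a⁻¹ := by
        have ha' : n⁻¹ * a * n ∈ A := by
          refine (mem_normalizer_iff.1 hn _).2 ?_
          rwa [show n * (n⁻¹ * a * n) * n⁻¹ = a by group]
        calc s * a * s⁻¹ = n * (X.t * (n⁻¹ * a * n) * X.t⁻¹) * n⁻¹ := by simp only [s]; group
          _ = a⁻¹ := by rw [h.inv _ ha']; group
      have hts : X.t * s ∈ A := h.mem_of_comm ha ha1 (by
        rw [← mul_inv_eq_iff_eq_mul, show X.t * s * a * (X.t * s)⁻¹ = X.t * (s * a * s⁻¹) * X.t⁻¹ by group, hs,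
          h.inv _ (inv_mem ha), inv_inv])
      obtain ⟨c, hc⟩ := exists_pow_eq_self_of_coprime (x := X.t * s) (n := 2)
        ((Nat.coprime_two_left.2 (h.odd_card.of_dvd_nat (Subgroup.orderOf_dvd_natCard _ hts))))
      set b := (X.t * s) ^ c
      have hb : b ∈ A := pow_mem hts c
      have hbb : b * b = X.t * s := by rw [← pow_add, ← two_mul, pow_mul]; exact hc
      have hbs : b * s * b⁻¹ = X.t := by
        rw [show s = X.t * (b * b) by rw [hbb, ← mul_assoc, X.tt, one_mul],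
          show b * (X.t * (b * b)) * b⁻¹ = b * (X.t * b * X.t⁻¹) * X.t by group, h.inv b hb, mul_inv_cancel, one_mul]
      refine ⟨(⟨b⁻¹, inv_mem hb⟩, ⟨b * n, mul_mem (hle hb) hn, mem_centralizer_singleton_iff.2 ?_⟩),
        Subtype.ext (inv_mul_cancel_left b n)⟩
      rw [← mul_inv_eq_iff_eq_mul, show b * n * X.t * (b * n)⁻¹ = b * s * b⁻¹ by simp only [s]; group]
      exact hbs
  rw [← Nat.card_congr (Equiv.ofBijective f hf), Nat.card_prod]

theorem E_dvd : Nat.card ↥(E X A) ∣ X.q * (X.q ^ 2 - 1) := by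
  rw [← X.card_C]; exact card_dvd_of_le inf_le_right

theorem E_free {x a : G} (hx : x ∈ E X A) (ha : a ∈ A) (ha1 : a ≠ 1) (he : x * a = a * x) : x = 1 :=
  h.E_inf (h.mem_of_comm ha ha1 he) hx

theorem E_dvd_sub : Nat.card ↥(E X A) ∣ Nat.card ↥A - 1 := by
  letI : MulAction ↥(E X A) G :=
    MulAction.compHom G ((MulAut.conj : G →* MulAut G).comp (E X A).subtype)
  rw [Nat.card_eq_fintype_card (α := ↥(E X A)), ← card_nontriv]
  refine dvd_free _ (fun k x hx => ?_) fun k x hx e => ?_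
  · exact h.ti.stab _ k.2.1 x hx
  · obtain ⟨hxA, hx1⟩ := (Finset.mem_filter.1 hx).2
    exact Subtype.ext (h.E_free k.2 hxA hx1 (mul_inv_eq_iff_eq_mul.1 e))

theorem fix_coset {a : G} (ha : a ∈ A) (ha1 : a ≠ 1) {c : G} (hc : c⁻¹ * a * c ∈ normalizer (A : Set G)) :
    c ∈ normalizer (A : Set G) := by
  set b := c⁻¹ * a * c with hb
  have hbo : orderOf b ∣ Nat.card ↥A := by
    rw [hb, show c⁻¹ * a * c = c⁻¹ * a * c⁻¹⁻¹ by group, orderOf_conj]
    exact Subgroup.orderOf_dvd_natCard _ ha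
  haveI : (A.subgroupOf (normalizer (A : Set G))).Normal := normal_in_normalizer
  have h1 : orderOf (QuotientGroup.mk' (A.subgroupOf (normalizer (A : Set G))) ⟨b, hc⟩) ∣ orderOf b := by
    rw [← Subgroup.orderOf_mk b hc]; exact orderOf_map_dvd _ _
  have h2 : orderOf (QuotientGroup.mk' (A.subgroupOf (normalizer (A : Set G))) ⟨b, hc⟩) ∣ Nat.card ↥(E X A) := by
    refine (_root_.orderOf_dvd_natCard _).trans (dvd_of_eq ?_)
    have hi := (A.subgroupOf (normalizer (A : Set G))).card_mul_index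
    rw [Nat.card_congr (subgroupOfEquivOfLe le_normalizer).toEquiv, h.card_norm] at hi
    exact Nat.eq_of_mul_eq_mul_left Nat.card_pos hi
  have h3 := Nat.eq_one_of_dvd_coprimes (h.cop.coprime_dvd_right h.E_dvd) (h1.trans hbo) h2
  rw [orderOf_eq_one_iff, QuotientGroup.mk'_apply, QuotientGroup.eq_one_iff, mem_subgroupOf] at h3
  have hb1 : b ≠ 1 := fun e => ha1 (by
    rw [show a = c * b * c⁻¹ by rw [hb]; group, e]; group)
  have hA : a = c * b * c⁻¹ := by rw [hb]; group
  exact h.ti.ti c b (Finset.mem_filter.2 ⟨Finset.mem_univ _, h3, hb1⟩)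
    (Finset.mem_filter.2 ⟨Finset.mem_univ _, hA ▸ ha, hA ▸ ha1⟩)

/-- The conjugates of a torus are `1` modulo its order. -/
theorem index_mod : Nat.card ↥A ∣ (normalizer (A : Set G)).index - 1 := by
  set N := normalizer (A : Set G)
  rw [Nat.card_eq_fintype_card, show N.index - 1 = ((Finset.univ : Finset (G ⧸ N)).erase ↑(1 : G)).card by
    rw [Finset.card_erase_of_mem (Finset.mem_univ _), Finset.card_univ, ← Nat.card_eq_fintype_card]; rfl]
  have hs : ∀ (k : ↥A) (c : G), k • (c : G ⧸ N) = (((k : G) * c : G) : G ⧸ N) := fun k c => rfl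
  refine dvd_free _ (fun k x hx => ?_) fun k x hx e => ?_
  · obtain ⟨c, rfl⟩ := QuotientGroup.mk_surjective x
    refine Finset.mem_erase.2 ⟨fun e => (Finset.mem_erase.1 hx).1 ?_, Finset.mem_univ _⟩
    rw [hs, QuotientGroup.eq, mul_one, inv_mem_iff] at e
    rw [QuotientGroup.eq, mul_one, inv_mem_iff]
    simpa using mul_mem (inv_mem (le_normalizer k.2)) e
  · obtain ⟨c, rfl⟩ := QuotientGroup.mk_surjective x
    by_contra hk
    refine (Finset.mem_erase.1 hx).1 ?_
    rw [QuotientGroup.eq, mul_one, inv_mem_iff]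
    rw [hs, QuotientGroup.eq, show ((k : G) * c)⁻¹ * c = (c⁻¹ * (k : G) * c)⁻¹ by group, inv_mem_iff] at e
    exact h.fix_coset k.2 (fun h1 => hk (Subtype.ext h1)) e

/-- The congruence. -/
theorem cong : (Nat.card ↥A : ℤ) ∣ (Nat.card ↥(E X A) : ℤ) * ((X.q : ℤ) + 1) -
    3 * (((X.q ^ 2 - X.q + 1) / Nat.card ↥A : ℕ) : ℤ) := by
  obtain ⟨c, hc⟩ := h.dvd
  obtain ⟨k, hk⟩ := h.index_mod
  have hapos : 0 < Nat.card ↥A := Nat.card_pos
  set a := Nat.card ↥A
  set e := Nat.card ↥(E X A)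
  set I := (normalizer (A : Set G)).index
  have hI : I = a * k + 1 := by
    have : I ≠ 0 := index_ne_zero_of_finite
    omega
  have hG := (normalizer (A : Set G)).card_mul_index
  rw [h.card_norm, X.card_G, hc, show a * e * I = a * (e * I) by ring,
    show X.q ^ 3 * (X.q ^ 2 - 1) * (a * c) = a * (X.q ^ 3 * (X.q ^ 2 - 1) * c) by ring] at hG
  have hG' := Nat.eq_of_mul_eq_mul_left hapos hG
  rw [hI] at hG'
  rw [hc, Nat.mul_div_cancel_left _ hapos]
  have q2 : 1 ≤ X.q ^ 2 := Nat.one_le_pow _ _ (by have := X.q_ge; omega)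
  have q3 : X.q ≤ X.q ^ 2 := Nat.le_self_pow (by norm_num) _
  zify [q2, q3] at hG' hc
  refine ⟨(c : ℤ) * c * (((X.q : ℤ) + 1) ^ 2 * ((X.q : ℤ) ^ 2 - 1) - ((X.q : ℤ) + 2)) -
    ((X.q : ℤ) + 1) * e * k, ?_⟩
  have hh : (e : ℤ) * ((a : ℤ) * k + 1) = (X.q : ℤ) ^ 3 * ((X.q : ℤ) ^ 2 - 1) * c := by exact_mod_cast hG'
  linear_combination ((X.q : ℤ) + 1) * hh + ((c : ℤ) * (((X.q : ℤ) + 1) ^ 2 * ((X.q : ℤ) ^ 2 - 1) - ((X.q : ℤ) + 2))) * hc

/-- The number of inverted elements in the class. -/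
theorem card_inv_eq {ν : ℕ} (hν : Nat.card ↥A - 1 = Nat.card ↥(E X A) * ν) :
    (Ree.inv X (As A)).card = X.q * (X.q ^ 2 - 1) * ν := by
  have h1 := card_inv X h.ti
  rw [h.pairs_eq, h.card_norm, hν] at h1
  refine Nat.eq_of_mul_eq_mul_right (show 0 < Nat.card ↥A * Nat.card ↥(E X A) from
    Nat.mul_pos Nat.card_pos Nat.card_pos) (h1.trans ?_)
  ring

end WTor

end Cfsg.Agent.Invol.PiHom.Ree
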